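import Cfsg.Agent.H943.E7V.Wt

/-!
# Multiplicities of the eigenvalues on the 56-dimensional module of `E₇(2)`
-/

set_option autoImplicit false
set_option maxRecDepth 100000

namespace Cfsg.Agent.H943.E7V.Alc

open Cfsg.Agent.ChevalleyStructure.CoxeterGeom Cfsg.Agent.Tits.Roots
  Cfsg.Agent.Nodes.RGDChev
open Cfsg.Lie Cfsg.Agent.ChevalleyStructure Cfsg.Agent.ChevalleyStructure.Elts
  Cfsg.Agent.ChevalleyStructure.RootVec Cfsg.Agent.ChevalleyStructure.RootVecTab
  Cfsg.Agent.ChevalleyStructure.NPerm Cfsg.Agent.ChevalleyStructure.CoxeterGeomTypes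
open Cfsg.Agent.H944.RootVals Cfsg.Agent.H944.Kac Cfsg.Agent.H944.Tab Cfsg.Agent.H944.E7Two
open Cfsg.Agent.H943.E7V.Block Cfsg.Agent.H943.E7V.Wt

/-- the multiset is stable under doubling -/
def Stab {N : ℕ} (m : Multiset (ZMod N)) : Prop := m = m.map fun a => 2 * a

theorem ms56_neg {R : Type*} [CommRing R] (v : Fin 7 → R) : (ms56 v).map (fun a => - a) = ms56 v := by
  rw [ms56_tab, Multiset.map_add, Multiset.map_coe, Multiset.map_coe, List.map_map, List.map_map, add_comm]
  congr 2
  refine List.map_congr_left fun w _ => ?_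
  simp

/-- sums over the multiset of values -/
theorem sum_ms56 {S A : Type*} [CommRing S] [AddCommMonoid A] (v : Fin 7 → S) (g : S → A) :
    ((ms56 v).map g).sum = (W28.map fun w => g (wl w v) + g (- wl w v)).sum := by
  rw [ms56_tab, Multiset.map_add, Multiset.sum_add, Multiset.map_coe, Multiset.map_coe, Multiset.sum_coe,
    Multiset.sum_coe, List.map_map, List.map_map, ← List.sum_map_add]
  rfl

/-- the value of a pair on a list, modulo `N` -/
def tt (N : ℕ) (w : List ℕ × List ℕ) (y : List ℕ) : ℕ := dotN w.1 y + (N - 1) * dotN w.2 y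

/-- the sum of `h` over the values -/
def sumW (N : ℕ) (h : ℕ → ℕ) (y : List ℕ) : ℕ := (W28.map fun w => h (tt N w y)).sum

theorem len28 : ∀ w ∈ W28, w.1.length ≤ 7 ∧ w.2.length ≤ 7 := by decide +kernel

/-- the vector of a list -/
def vecL (N : ℕ) (Y : List ℕ) : Fin 7 → ZMod N := fun i => ((Y.getD i 0 : ℕ) : ZMod N)

theorem wl_vecL {N : ℕ} (hN : 0 < N) {w : List ℕ × List ℕ} (hw : w ∈ W28) (y : List ℕ) :
    wl w (vecL N y) = ((tt N w y : ℕ) : ZMod N) := by
  obtain ⟨h1, h2⟩ := len28 w hw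
  unfold wl tt vecL crd
  rw [dotN_eq 7 _ y h1, dotN_eq 7 _ y h2]
  have h3 : ((N - 1 : ℕ) : ZMod N) = -1 := by
    rw [Nat.cast_sub (by omega), ZMod.natCast_self]; simp
  push_cast
  rw [h3, neg_one_mul, ← sub_eq_add_neg, ← Finset.sum_sub_distrib]
  refine Finset.sum_congr rfl fun i _ => ?_
  ring

theorem hh_eq {N : ℕ} (hN : 0 < N) (t : ℕ) : 256 ^ (t : ZMod N).val + 256 ^ (-(t : ZMod N)).val = hh N t := by
  have : NeZero N := ⟨hN.ne'⟩
  rw [hh, ZMod.val_natCast]
  congr 2
  by_cases h0 : t % N = 0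
  · have h3 : (t : ZMod N) = 0 := by rw [ZMod.natCast_eq_zero_iff]; exact Nat.dvd_of_mod_eq_zero h0
    rw [h3, neg_zero, ZMod.val_zero, h0, Nat.sub_zero, Nat.mod_self]
  · have h3 : (t : ZMod N) ≠ 0 := by
      intro h4
      rw [ZMod.natCast_eq_zero_iff] at h4
      exact h0 (Nat.mod_eq_zero_of_dvd h4)
    have : NeZero (t : ZMod N) := ⟨h3⟩
    rw [ZMod.val_neg_of_ne_zero, ZMod.val_natCast]
    refine (Nat.mod_eq_of_lt ?_).symm
    have := Nat.mod_lt t hN
    omega

/-- stability under doubling, as a check -/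
def invW (N : ℕ) (y : List ℕ) : Bool := Nat.beq (sumW N (hh N) y) (sumW N (fun t => hh N (2 * t)) y)

theorem invW_of {N : ℕ} (hN : 0 < N) {y : List ℕ} (h : Stab (ms56 (vecL N y))) : invW N y = true := by
  rw [invW, Nat.beq_eq]
  have h1 : ((ms56 (vecL N y)).map fun c => 256 ^ c.val).sum = ((ms56 (vecL N y)).map fun c => 256 ^ (2 * c).val).sum := by
    conv_lhs => rw [h, Multiset.map_map]
    rfl
  rw [sum_ms56, sum_ms56] at h1
  have h2 : sumW N (hh N) y = (W28.map fun w => 256 ^ (wl w (vecL N y)).val + 256 ^ (- wl w (vecL N y)).val).sum := by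
    unfold sumW
    refine congrArg List.sum (List.map_congr_left fun w hw => ?_)
    rw [wl_vecL hN hw, hh_eq hN]
  have h3 : sumW N (fun t => hh N (2 * t)) y =
      (W28.map fun w => 256 ^ (2 * wl w (vecL N y)).val + 256 ^ (2 * - wl w (vecL N y)).val).sum := by
    unfold sumW
    refine congrArg List.sum (List.map_congr_left fun w hw => ?_)
    show hh N (2 * tt N w y) = _
    rw [wl_vecL hN hw, ← hh_eq hN]
    push_cast
    rw [mul_neg]
  rw [h2, h3]
  exact h1

/-- the number of values equal to 1 -/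
def cnt (N : ℕ) (y : List ℕ) : ℕ := sumW N (fun t => (bif Nat.beq (t % N) 1 then 1 else 0) + (bif Nat.beq ((N - t % N) % N) 1 then 1 else 0)) y

theorem cnt_eq {N : ℕ} (hN : 1 < N) (y : List ℕ) : (ms56 (vecL N y)).count 1 = cnt N y := by
  classical
  have hN0 : 0 < N := by omega
  have : NeZero N := ⟨hN0.ne'⟩
  have h1 : ∀ m : Multiset (ZMod N), m.count 1 = (m.map fun a => if a = 1 then 1 else 0).sum := by
    intro m
    induction m using Multiset.induction_on with
    | empty => simp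
    | cons a m ih =>
      rw [Multiset.map_cons, Multiset.sum_cons, Multiset.count_cons, ih, add_comm]
      congr 1
      simp only [eq_comm]
  rw [h1, sum_ms56]
  unfold cnt sumW
  refine congrArg List.sum (List.map_congr_left fun w hw => ?_)
  rw [wl_vecL hN0 hw]
  generalize tt N w y = t
  have h3 : ∀ t : ℕ, ((t : ZMod N) = 1) ↔ t % N = 1 := by
    intro t
    have h4 := ZMod.natCast_eq_natCast_iff' t 1 N
    rw [Nat.cast_one, Nat.mod_eq_of_lt hN] at h4
    exact h4
  have h5 : (-(t : ZMod N)) = (((N - t % N) % N : ℕ) : ZMod N) := by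
    rw [ZMod.natCast_mod, Nat.cast_sub (Nat.mod_lt t hN0).le, ZMod.natCast_self, ZMod.natCast_mod, zero_sub]
  have h6 : ∀ a : ℕ, (bif Nat.beq a 1 then 1 else 0) = (if a = 1 then 1 else 0 : ℕ) := by
    intro a
    by_cases h : a = 1
    · rw [if_pos h, h]; rfl
    · rw [if_neg h]
      have : Nat.beq a 1 = false := by
        cases hb : Nat.beq a 1 with
        | false => rfl
        | true => exact absurd (Nat.eq_of_beq_eq_true hb) h
      rw [this]; rfl
  show _ = (bif (t % N).beq 1 then 1 else 0) + (bif ((N - t % N) % N).beq 1 then 1 else 0)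
  rw [h6, h6, h5]
  simp only [h3, Nat.mod_mod]

/-- the check for the order `N` -/
def chkN (N : ℕ) (L : List ℕ) : Bool := allAlc th7 N fun y =>
  bif invW N y then ((y.all fun x => Nat.beq (x % N) 0) || L.contains (cnt N y)) else true

theorem chk3 : chkN 3 [27, 21, 18, 12] = true := by decide +kernel

theorem chk5 : chkN 5 [10] = true := by decide +kernel

theorem chk7 : chkN 7 [9, 8, 6] = true := by decide +kernel

/-- the condition of `chkN 13 [4]` -/
def p13 (y : List ℕ) : Bool :=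
  bif invW 13 y then ((y.all fun x => Nat.beq (x % 13) 0) || [4].contains (cnt 13 y)) else true

theorem chk13_0 : allAlc [3, 4, 3, 2, 1] (13 - 2 * 0 - 2 * 0) (fun y => p13 (0 :: 0 :: y)) = true := by decide +kernel

theorem chk13_1 : (List.range' 1 6).all (fun x => allAlc [3, 4, 3, 2, 1] (13 - 2 * 0 - 2 * x) fun y => p13 (0 :: x :: y)) = true := by
  decide +kernel

theorem chk13_2 : allAlc [2, 3, 4, 3, 2, 1] (13 - 2 * 1) (fun y => p13 (1 :: y)) = true := by decide +kernel

theorem chk13_3 : (List.range' 2 5).all (fun x => allAlc [2, 3, 4, 3, 2, 1] (13 - 2 * x) fun y => p13 (x :: y)) = true := by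
  decide +kernel

theorem chk13 : chkN 13 [4] = true := by
  have h0 : allAlc [2, 3, 4, 3, 2, 1] (13 - 2 * 0) (fun y => p13 (0 :: y)) = true := by
    rw [allAlc, List.all_eq_true]
    intro x hx
    have hx' : x < 7 := List.mem_range.1 hx
    rcases Nat.eq_zero_or_pos x with h | h
    · rw [h]; exact chk13_0
    · exact List.all_eq_true.1 chk13_1 x (List.mem_range'_1.2 ⟨h, by omega⟩)
  unfold chkN th7
  rw [allAlc, List.all_eq_true]
  intro x hx
  have hx' : x < 7 := List.mem_range.1 hx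
  rcases Nat.lt_or_ge x 2 with h | h
  · rcases Nat.lt_or_ge x 1 with h1 | h1
    · have e : x = 0 := by omega
      rw [e]; exact h0
    · have e : x = 1 := by omega
      rw [e]; exact chk13_2
  · exact List.all_eq_true.1 chk13_3 x (List.mem_range'_1.2 ⟨h, by omega⟩)

/-- the multiplicity of the value 1 -/
theorem count_mem {N : ℕ} (hN : 1 < N) {L : List ℕ} (hL : chkN N L = true) {v : Fin 7 → ZMod N} (hv : v ≠ 0)
    (hs : Stab (ms56 v)) : (ms56 v).count 1 ∈ L := by
  classical
  have hN0 : 0 < N := by omega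
  let P : (Fin 7 → ZMod N) → Prop := fun w => ms56 w = ms56 v ∧ w ≠ 0
  have hPs : ∀ w j, P w → P (srefl chevE7 7 j w) := by
    rintro w j ⟨h1, h2⟩
    refine ⟨by rw [ms56_srefl, h1], fun h => h2 (srefl_eq_zero e7T h)⟩
  obtain ⟨y, ⟨hy, hy0⟩, hθ⟩ := exists_alcove e7T (N := N) hN0 _ _ 36 (by norm_num) theta7
    (by decide) _ pos7 P hPs (v₀ := v) ⟨rfl, hv⟩
  let Y : List ℕ := List.ofFn y
  have hY : ∀ i : Fin 7, Y.getD i 0 = y i := by
    intro i
    rw [List.getD_eq_getElem _ _ (by rw [List.length_ofFn]; exact i.2), List.getElem_ofFn]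
  have h1 : dotN th7 Y ≤ N := by
    rw [dotN_eq 7 th7 Y (by decide)]
    have h2 : ∑ i : Fin 7, th7.getD i 0 * Y.getD i 0 = ∑ i : Fin 7, th7.getD i 0 * y i :=
      Finset.sum_congr rfl fun i _ => by rw [hY]
    rw [h2]
    simp only [Fin.sum_univ_seven, Matrix.cons_val] at hθ ⊢
    simp only [th7, List.getD_cons_zero, List.getD_cons_succ, Fin.val_zero, Fin.val_one, Fin.val_two] at hθ ⊢
    norm_num at hθ ⊢
    omega
  have h2 := allAlc_spec th7 N _ (by decide) hL Y (by simp [Y, th7]) h1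
  have h3 : vecL N Y = fun i => ((y i : ℕ) : ZMod N) := by
    funext i
    unfold vecL
    rw [hY]
  rw [← h3] at hy hy0
  rw [← hy] at hs ⊢
  rw [invW_of hN0 hs, cond_true, Bool.or_eq_true] at h2
  rcases h2 with h2 | h2
  · exfalso
    apply hy0
    funext i
    rw [List.all_eq_true] at h2
    have h4 := h2 (Y.getD i 0) (by
      rw [List.getD_eq_getElem _ _ (by rw [List.length_ofFn]; exact i.2)]
      exact List.getElem_mem _)
    rw [Nat.beq_eq] at h4
    show ((Y.getD i 0 : ℕ) : ZMod N) = 0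
    rw [ZMod.natCast_eq_zero_iff]
    exact Nat.dvd_of_mod_eq_zero h4
  · rw [cnt_eq hN]
    simpa using h2

end Cfsg.Agent.H943.E7V.Alc
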