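import Cfsg.Agent.H943.E7V.Tor
import Cfsg.Agent.H943.E7V.Alc

/-!
# The representation of degree 56 of `E₇(2)` and the eigenvalues of its elements of odd order
-/

set_option autoImplicit false
set_option linter.unusedSectionVars false

namespace Cfsg.Agent.H943.E7V.TorMain

open CoxeterSystem Cfsg Cfsg.Lie Cfsg.Lie.ChevalleyDatum
open Cfsg.Agent.ChevalleyStructure Cfsg.Agent.ChevalleyStructure.Elts Cfsg.Agent.ChevalleyStructure.CoxeterGeom
  Cfsg.Agent.ChevalleyStructure.CoxeterGeomTypes Cfsg.Agent.ChevalleyStructure.NPerm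
  Cfsg.Agent.ChevalleyStructure.RootVec Cfsg.Agent.ChevalleyStructure.RootVecTab
open Cfsg.Agent.Tits.Roots Cfsg.Agent.Tits.Core Cfsg.Agent.Nodes Cfsg.Agent.Nodes.Reps Cfsg.Agent.Nodes.BNOf
  Cfsg.Agent.Nodes.RGDChev
open Cfsg.Agent.KFacts.RgdChevCoord Cfsg.Agent.GpExc.Field Cfsg.Agent.H129.TorusUntw
open Cfsg.Agent.ChevalleyStructure.StBasic Cfsg.Agent.ChevalleyStructure.StTheta Cfsg.Agent.ChevalleyStructure.StEmbed
open Cfsg.Agent.H129.StCover Cfsg.Agent.BpExc.TorAll Cfsg.Agent.KFacts.En.Roots Cfsg.Agent.H120.StSeven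
open Cfsg.Agent.H944.RootVals Cfsg.Agent.H944.E7Two
open Cfsg.Agent.H943.E7V.Block Cfsg.Agent.H943.E7V.Wt Cfsg.Agent.H943.E7V.Tor Cfsg.Agent.H943.E7V.Alc
open Polynomial (X C)

theorem center_bot : Subgroup.center (chevE7.SteinbergGroup (ZMod 2)) = ⊥ := by
  have hcent := Cfsg.Agent.S1079.result (K := ZMod 2) rfl (chevE7, 2) (by simp)
  change Nat.card (Subgroup.center (chevE7.SteinbergGroup (ZMod 2))) = _ at hcent
  rw [ZMod.card] at hcent
  exact Subgroup.eq_bot_of_card_eq _ hcent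

theorem theta_bij : Function.Bijective (theta e7T.inList (ZMod 2)) := by
  refine ⟨?_, theta_surjective _⟩
  rw [← MonoidHom.ker_eq_bot_iff, ker_theta e7T.inList, center_bot]

/-- the presented group over the field of two elements is `E₇(2)` -/
noncomputable def eqv : chevE7.SteinbergGroup (ZMod 2) ≃* ↥(chevE7.group (ZMod 2)) :=
  MulEquiv.ofBijective (theta e7T.inList (ZMod 2)) theta_bij

/-- the representation of `E₇(2)` of degree 56 -/
noncomputable def RR : ↥(chevE7.group (ZMod 2)) →* Matrix D1 D1 (ZMod 2) :=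
  (rho (ZMod 2)).comp (eqv.symm : ↥(chevE7.group (ZMod 2)) →* chevE7.SteinbergGroup (ZMod 2))

theorem sum_ex {N : ℕ} (a : Fin 7 → ℕ) (s : D1) :
    (2 : ZMod N) * ∑ i : Fin 7, (ex s i : ZMod N) * (a i : ZMod N) =
      wv (fun j : Fin 7 => ∑ i : Fin 7, ((chevE7.cartan i (chevE7.simple j) : ℤ) : ZMod N) * (a i : ZMod N))
        (s : Fin chevE8.nroots) := by
  unfold wv
  rw [Finset.mul_sum]
  have h1 : ∀ i : Fin 7, (2 : ZMod N) * ((ex s i : ZMod N) * (a i : ZMod N)) =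
      ∑ j : Fin 7, ((cc (s : Fin chevE8.nroots) j : ℤ) : ZMod N) *
        (((chevE7.cartan i (chevE7.simple j) : ℤ) : ZMod N) * (a i : ZMod N)) := by
    intro i
    have h2 := pair_eq' s i
    have h3 := congrArg (fun m : ℤ => (m : ZMod N) * (a i : ZMod N)) h2
    simp only [Int.cast_sum, Int.cast_mul, Int.cast_ofNat, Finset.sum_mul] at h3
    rw [← mul_assoc]
    refine Eq.trans ?_ (h3.symm.trans (Finset.sum_congr rfl fun j _ => mul_assoc _ _ _))
    rfl
  rw [Finset.sum_congr rfl fun i _ => h1 i, Finset.sum_comm]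
  refine Finset.sum_congr rfl fun j _ => ?_
  rw [Finset.mul_sum]

theorem sum_root {N : ℕ} (a : Fin 7 → ℕ) {s : ℕ} (hs : s < chevE7.nroots) :
    ∑ i : Fin 7, ((chevE7.cartan i s : ℤ) : ZMod N) * (a i : ZMod N) =
      ∑ j : Fin 7, ((rt chevE7 s j : ℤ) : ZMod N) *
        ∑ i : Fin 7, ((chevE7.cartan i (chevE7.simple j) : ℤ) : ZMod N) * (a i : ZMod N) := by
  have h3 : ∀ i : Fin 7, ((chevE7.cartan i s : ℤ) : ZMod N) * (a i : ZMod N) =
      ∑ j : Fin 7, ((rt chevE7 s j : ℤ) : ZMod N) *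
        (((chevE7.cartan i (chevE7.simple j) : ℤ) : ZMod N) * (a i : ZMod N)) := by
    intro i
    have h4 := cartan_eq_sum checked_E7 (show (i : ℕ) < 7 from i.2) hs
    rw [show chevE7.rank = 7 from rfl, Finset.sum_range] at h4
    rw [h4]
    push_cast
    rw [Finset.sum_mul]
    exact Finset.sum_congr rfl fun j _ => mul_assoc _ _ _
  rw [Finset.sum_congr rfl fun i _ => h3 i, Finset.sum_comm]
  refine Finset.sum_congr rfl fun j _ => ?_
  rw [Finset.mul_sum]

/-- **Eigenvalues on the 56-dimensional module.** -/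
theorem exists_st {x : chevE7.SteinbergGroup (ZMod 2)} {N : ℕ} (hN0 : N ≠ 0) (hN : N.Coprime 2) (hx : x ^ N = 1) :
    ∃ v : Fin 7 → ZMod N, (v = 0 → x = 1) ∧ Stab (ms56 v) ∧ ∃ ζ : AlgebraicClosure (ZMod 2), IsPrimitiveRoot ζ N ∧
      ∀ d : ℕ, ((rho (ZMod 2) (x ^ d)).charpoly).map (algebraMap (ZMod 2) (AlgebraicClosure (ZMod 2))) =
        ((ms56 v).map (fun a => X - C (ζ ^ (((d : ZMod N) * a).val)))).prod := by
  classical
  have : NeZero N := ⟨hN0⟩
  have hfact : Fact (Nat.Prime 2) := ⟨Nat.prime_two⟩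
  set k := AlgebraicClosure (ZMod 2) with hk
  have hkch : CharP k 2 := charP_of_injective_algebraMap (algebraMap (ZMod 2) k).injective 2
  have hk' : HAlg 2 k := hAlg_closure 2 (ZMod 2)
  set f : ZMod 2 →+* k := algebraMap (ZMod 2) k with hf
  obtain ⟨Φ, hΦ⟩ := Cfsg.Agent.H129.PhiE.isPhi_E7 k
  set y : chevE7.SteinbergGroup k := stMap chevE7 f x with hy
  have hyN : y ^ N = 1 := by rw [hy, ← map_pow, hx, map_one]
  set x' : ↥(chevE7.group k) := theta e7T.inList k y with hx'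
  have hxN : x' ^ N = 1 := by rw [hx', ← map_pow, hyN, map_one]
  obtain ⟨g, hg⟩ := Cfsg.Agent.H944.TorAnyChev.exists_conj_mem_TT e7T 2 hk' hN0 hN hxN
  obtain ⟨a, ha⟩ := exists_theta_phi hΦ e7T hg
  obtain ⟨g', hg'⟩ := theta_surjective e7T.inList g
  -- the conjugate of `y` is in the image of `Φ`
  obtain ⟨c, hc⟩ : ∃ c, Φ c = g' * y * g'⁻¹ := by
    have h1 : (Φ a)⁻¹ * (g' * y * g'⁻¹) ∈ (theta e7T.inList k).ker := by
      rw [MonoidHom.mem_ker, map_mul, map_inv, ha, map_mul, map_mul, map_inv, hg', inv_mul_cancel]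
    rw [ker_theta e7T.inList] at h1
    obtain ⟨b, hb⟩ := hΦ.center_le h1
    exact ⟨a * b, by rw [map_mul, hb, mul_inv_cancel_left]⟩
  have hcN : c ^ N = 1 := by
    apply hΦ.inj
    rw [map_pow, hc, conj_pow, hyN, mul_one, mul_inv_cancel, map_one]
  -- a primitive root of unity
  have hNk : ((N : ℕ) : k) ≠ 0 := by
    intro h0
    have h1 : 2 ∣ N := (CharP.cast_eq_zero_iff k 2 N).1 h0
    have h2 : 2 ∣ 1 := by
      rw [← hN]
      exact Nat.dvd_gcd h1 dvd_rfl
    omega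
  have : NeZero ((N : ℕ) : k) := ⟨hNk⟩
  obtain ⟨ζ, hζ⟩ : ∃ ζ : k, IsPrimitiveRoot ζ N := HasEnoughRootsOfUnity.exists_primitiveRoot k N
  set z : kˣ := (hζ.toRootsOfUnity : kˣ) with hz
  have hzc : (z : k) = ζ := rfl
  have hzN : z ^ N = 1 := by
    apply Units.ext
    rw [Units.val_pow_eq_pow_val, Units.val_one]
    exact hζ.pow_eq_one
  have hex : ∀ j, ∃ a : ℕ, z ^ a = c j := by
    intro j
    have h1 : ((c j : kˣ) : k) ^ N = 1 := by
      rw [← Units.val_pow_eq_pow_val, ← Pi.pow_apply, hcN, Pi.one_apply, Units.val_one]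
    obtain ⟨a, -, ha⟩ := hζ.eq_pow_of_pow_eq_one h1
    refine ⟨a, Units.ext ?_⟩
    rw [Units.val_pow_eq_pow_val, ← ha]
    rfl
  choose a' ha' using hex
  have hc' : c = fun i => z ^ a' i := (funext ha').symm
  let u : D1 → ZMod N := fun s => ∑ i, (ex s i : ZMod N) * (a' i : ZMod N)
  have hch : ∀ d : ℕ, ((rho (ZMod 2) (x ^ d)).charpoly).map f =
      (Matrix.diagonal fun s : D1 => ζ ^ (((d : ZMod N) * u s).val)).charpoly := by
    intro d
    have h1 : rho k (y ^ d) = (rho (ZMod 2) (x ^ d)).map f := by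
      rw [hy, ← map_pow]
      exact rho_stMap f (x ^ d)
    have h2 : Φ (c ^ d) = g' * y ^ d * g'⁻¹ := by rw [map_pow, hc, conj_pow]
    have h3 := rho_conj_charpoly g' (y ^ d)
    rw [← h2, rho_phi hΦ, hc', dg_pow hzN, h1, Matrix.charpoly_map] at h3
    exact h3.symm
  let v : Fin 7 → ZMod N := fun j => ∑ i : Fin 7, ((chevE7.cartan i (chevE7.simple j) : ℤ) : ZMod N) * (a' i : ZMod N)
  have hms2 : ms56 v = Finset.univ.val.map fun s => 2 * u s := by
    unfold ms56
    exact Multiset.map_congr rfl fun s _ => (sum_ex a' s).symm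
  have hfr : Finset.univ.val.map u = Finset.univ.val.map fun s => 2 * u s := by
    refine frob_ms f hζ (P := (rho (ZMod 2) x).charpoly) ?_
    have h1 := hch 1
    rw [pow_one] at h1
    rw [h1]
    simp only [Nat.cast_one, one_mul]
  have hms : ms56 v = Finset.univ.val.map u := hms2.trans hfr.symm
  refine ⟨v, ?_, ?_, ζ, hζ, ?_⟩
  · intro hv
    have h1 : Φ c ∈ Subgroup.center (chevE7.SteinbergGroup k) := by
      rw [hΦ.mem_iff]
      intro s hs
      rw [hc', prod_pow hzN]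
      have h2 : ∑ i : Fin chevE7.rank, ((chevE7.cartan i s : ℤ) : ZMod N) * (a' i : ZMod N) =
          ∑ j : Fin 7, ((rt chevE7 s j : ℤ) : ZMod N) * v j := sum_root a' hs
      rw [h2, hv]
      simp
    rw [← ker_theta e7T.inList, MonoidHom.mem_ker, hc, map_mul, map_mul, map_inv, conj_eq_one_iff] at h1
    rw [hy, theta_stMap f e7T.inList] at h1
    have h2 : theta e7T.inList (ZMod 2) x = 1 := emb_injective e7T.inList f (by rw [h1, map_one])
    exact theta_bij.1 (by rw [h2, map_one])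
  · unfold Stab
    rw [hms, Multiset.map_map]
    exact hfr
  · intro d
    rw [hch d, Matrix.charpoly_diagonal, hms, Multiset.map_map]
    rfl

/-- **Eigenvalues on the 56-dimensional module.** -/
theorem exists_ms {x : ↥(chevE7.group (ZMod 2))} {N : ℕ} (hN0 : N ≠ 0) (hN : N.Coprime 2) (hx : x ^ N = 1)
    (K : Type) [Field K] [IsAlgClosed K] [Algebra (ZMod 2) K] :
    ∃ v : Fin 7 → ZMod N, (v = 0 → x = 1) ∧ Stab (ms56 v) ∧ ∃ ζ : K, IsPrimitiveRoot ζ N ∧
      ∀ d : ℕ, ((RR (x ^ d)).charpoly).map (algebraMap (ZMod 2) K) =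
        ((ms56 v).map (fun a => X - C (ζ ^ (((d : ZMod N) * a).val)))).prod := by
  have hx' : (eqv.symm x) ^ N = 1 := by rw [← map_pow, hx, map_one]
  obtain ⟨v, h1, h2, ζ, hζ, h3⟩ := exists_st hN0 hN hx'
  let ψ : AlgebraicClosure (ZMod 2) →ₐ[ZMod 2] K := IsAlgClosed.lift
  have hψ : ψ.toRingHom.comp (algebraMap (ZMod 2) (AlgebraicClosure (ZMod 2))) = algebraMap (ZMod 2) K :=
    Subsingleton.elim _ _
  refine ⟨v, fun hv => ?_, h2, ψ ζ, hζ.map_of_injective ψ.toRingHom.injective, fun d => ?_⟩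
  · have h4 := h1 hv
    exact eqv.symm.injective (by rw [h4, map_one])
  · have h4 := congrArg (Polynomial.map ψ.toRingHom) (h3 d)
    rw [Polynomial.map_map, hψ] at h4
    have h5 : RR (x ^ d) = rho (ZMod 2) (eqv.symm x ^ d) := by
      show rho (ZMod 2) (eqv.symm (x ^ d)) = _
      rw [map_pow]
    rw [h5, h4, Polynomial.map_multiset_prod, Multiset.map_map]
    congr 1
    refine Multiset.map_congr rfl fun a _ => ?_
    simp only [Function.comp_apply, Polynomial.map_sub, Polynomial.map_X, map_pow, Polynomial.map_pow,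
      Polynomial.map_C]
    rfl

end Cfsg.Agent.H943.E7V.TorMain
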