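import Cfsg.Agent.H943.E7V.Bra
import Cfsg.Agent.H943.E7V.TorMain

/-!
# `E₇(2)` is admissible
-/

set_option autoImplicit false
set_option linter.unusedSectionVars false

namespace Cfsg.Agent.H943.E7V.AdmMain

open Cfsg Cfsg.Lie Cfsg.Agent.H657 IsLocalRing Module
open Cfsg.Agent.H943.E7V.Block Cfsg.Agent.H943.E7V.Wt Cfsg.Agent.H943.E7V.Tor Cfsg.Agent.H943.E7V.Alc
  Cfsg.Agent.H943.E7V.TorMain Cfsg.Agent.H943.E7V.Bra
open Polynomial (X C)

attribute [local instance] Above.isAlgClosed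

/-- The representation over `K` given by a homomorphism to matrices over `F₀`. -/
noncomputable def matRep {ι : Type*} [Fintype ι] [DecidableEq ι] {F₀ : Type*} [Field F₀] (K : Type*) [Field K]
    [Algebra F₀ K] {G : Type*} [Group G] (ρ : G →* Matrix ι ι F₀) {n : ℕ} (e : ι ≃ Fin n) :
    Representation K G (Fin n → K) where
  toFun g := Matrix.toLin' (Matrix.reindex e e ((ρ g).map (algebraMap F₀ K)))
  map_one' := by
    rw [map_one, Matrix.map_one _ (map_zero _) (map_one _)]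
    have : Matrix.reindex e e (1 : Matrix ι ι K) = 1 := by
      rw [Matrix.reindex_apply, Matrix.submatrix_one_equiv]
    rw [this, Matrix.toLin'_one]
    rfl
  map_mul' a b := by
    rw [map_mul, Matrix.map_mul]
    have : Matrix.reindex e e ((ρ a).map (algebraMap F₀ K) * (ρ b).map (algebraMap F₀ K)) =
        Matrix.reindex e e ((ρ a).map (algebraMap F₀ K)) * Matrix.reindex e e ((ρ b).map (algebraMap F₀ K)) := by
      rw [Matrix.reindex_apply, Matrix.reindex_apply, Matrix.reindex_apply, Matrix.submatrix_mul_equiv]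
    rw [this, Matrix.toLin'_mul]
    rfl

theorem matRep_apply {ι : Type*} [Fintype ι] [DecidableEq ι] {F₀ : Type*} [Field F₀] (K : Type*) [Field K]
    [Algebra F₀ K] {G : Type*} [Group G] (ρ : G →* Matrix ι ι F₀) {n : ℕ} (e : ι ≃ Fin n) (g : G) :
    matRep K ρ e g = Matrix.toLin' (Matrix.reindex e e ((ρ g).map (algebraMap F₀ K))) := rfl

theorem matRep_charpoly {ι : Type*} [Fintype ι] [DecidableEq ι] {F₀ : Type*} [Field F₀] (K : Type*) [Field K]
    [Algebra F₀ K] {G : Type*} [Group G] (ρ : G →* Matrix ι ι F₀) {n : ℕ} (e : ι ≃ Fin n) (g : G) :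
    LinearMap.charpoly (matRep K ρ e g) = (ρ g).charpoly.map (algebraMap F₀ K) := by
  rw [matRep_apply, Matrix.charpoly_toLin', Matrix.charpoly_reindex, Matrix.charpoly_map]

/-- an enumeration of the roots of degree 1 -/
noncomputable def e56 : D1 ≃ Fin 56 := Fintype.equivFinOfCardEq card_D1

variable (V : ValuationSubring ℂ) [CharP (ResidueField V) 2]

noncomputable instance algZ2 : Algebra (ZMod 2) (ResidueField V) := ZMod.algebra _ 2

/-- the representation of `E₇(2)` of degree 56 over the residue field -/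
noncomputable def sg : Representation (ResidueField V) ↥(chevE7.group (ZMod 2)) (Fin 56 → ResidueField V) :=
  matRep (ResidueField V) RR e56

variable {V}

theorem bc_sg {x : ↥(chevE7.group (ZMod 2))} {N : ℕ} (hN0 : N ≠ 0) (hN : N.Coprime 2) (hx : x ^ N = 1) :
    ∃ v : Fin 7 → ZMod N, (v = 0 → x = 1) ∧ Stb (ms56 v) ∧ ∃ ξ : ℂ, IsPrimitiveRoot ξ N ∧
      ∀ d : ℕ, bc 2 (sg V) (x ^ d) = sm ξ ((ms56 v).map fun a => (d : ZMod N) * a) := by
  have hfact : Fact (Nat.Prime 2) := ⟨Nat.prime_two⟩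
  have : IsAlgClosed (ResidueField V) := Above.isAlgClosed V
  obtain ⟨v, h1, h2, ζ, hζ, h3⟩ := exists_ms hN0 hN hx (ResidueField V)
  have h2N : ¬ 2 ∣ N := by
    intro h
    have := Nat.dvd_gcd h (dvd_refl 2)
    rw [hN] at this
    omega
  have hRU : IsRU 2 ζ := ⟨N, h2N, hζ.pow_eq_one⟩
  refine ⟨v, h1, ⟨h2, ms56_neg v⟩, lift 2 ζ, lift_primitive h2N hζ, fun d => ?_⟩
  unfold bc sm
  rw [Multiset.map_map]
  have h4 : LinearMap.charpoly (sg V (x ^ d)) = (RR (x ^ d)).charpoly.map (algebraMap (ZMod 2) (ResidueField V)) :=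
    matRep_charpoly _ _ _ _
  rw [h4, h3 d, show (ms56 v).map (fun a => X - C (ζ ^ (((d : ZMod N) * a).val))) =
    ((ms56 v).map (fun a => ζ ^ (((d : ZMod N) * a).val))).map (fun r => X - C r) by rw [Multiset.map_map]; rfl,
    Polynomial.roots_multiset_prod_X_sub_C, Multiset.map_map]
  congr 1
  refine Multiset.map_congr rfl fun a _ => ?_
  exact lift_pow hRU _

theorem bc_prime {N : ℕ} (hp : N.Prime) (hN : N.Coprime 2) (hG : Gen N) {L : List ℕ} (hL : chkN N L = true)
    {x : ↥(chevE7.group (ZMod 2))} (hx : orderOf x = N) :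
    ∃ c ∈ L, bc 2 (sg V) x = 56 - N * c := by
  obtain ⟨v, h1, h2, ξ, hξ, h3⟩ := bc_sg (V := V) hp.ne_zero hN (hx ▸ pow_orderOf_eq_one x)
  have hv : v ≠ 0 := by
    intro h0
    rw [h1 h0, orderOf_one] at hx
    exact hp.one_lt.ne hx
  refine ⟨_, count_mem hp.one_lt hL hv h2.dbl, ?_⟩
  have h4 := h3 1
  simp only [pow_one, Nat.cast_one, one_mul, Multiset.map_id'] at h4
  rw [h4, sm_prime hp hG h2 hξ rfl, card_ms56]
  norm_num

/-- the value does not depend on the generator -/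
theorem bc_gen {N : ℕ} (hN0 : N ≠ 0) (hN : N.Coprime 2) (hG : Gen N) {x : ↥(chevE7.group (ZMod 2))} (hx : x ^ N = 1)
    {j : ℕ} (hj : Nat.Coprime j N) : bc 2 (sg V) (x ^ j) = bc 2 (sg V) x := by
  obtain ⟨v, h1, h2, ξ, hξ, h3⟩ := bc_sg (V := V) hN0 hN hx
  have h4 := h3 1
  simp only [pow_one, Nat.cast_one, one_mul, Multiset.map_id'] at h4
  rw [h3 j, h4, h2.unit hG ((ZMod.isUnit_iff_coprime j N).2 hj)]

theorem bc_one : bc 2 (sg V) 1 = 56 := by
  obtain ⟨v, h1, h2, ξ, hξ, h3⟩ := bc_sg (V := V) (x := 1) (N := 1) one_ne_zero (by norm_num) (by simp)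
  have h4 := h3 1
  rw [one_pow] at h4
  rw [h4]
  unfold sm
  have h5 : ξ = 1 := by have := hξ.pow_eq_one; rwa [pow_one] at this
  rw [h5]
  simp only [one_pow, Multiset.map_const', Multiset.sum_replicate, Multiset.card_map, card_ms56, nsmul_eq_mul, mul_one]
  norm_num

theorem vals : Vals (sg V) where
  one := bc_one
  three g hg := by
    obtain ⟨c, hc, h⟩ := bc_prime (V := V) (by norm_num) (by norm_num) gen3 chk3 hg
    rw [h]
    simp only [List.mem_cons, List.mem_nil_iff, or_false] at hc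
    rcases hc with rfl | rfl | rfl | rfl <;> norm_num
  five g hg := by
    obtain ⟨c, hc, h⟩ := bc_prime (V := V) (by norm_num) (by norm_num) gen5 chk5 hg
    rw [h]
    simp only [List.mem_cons, List.mem_nil_iff, or_false] at hc
    subst hc
    norm_num
  seven g hg := by
    obtain ⟨c, hc, h⟩ := bc_prime (V := V) (by norm_num) (by norm_num) gen7 chk7 hg
    rw [h]
    simp only [List.mem_cons, List.mem_nil_iff, or_false] at hc
    rcases hc with rfl | rfl | rfl <;> norm_num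
  thirteen g hg := by
    obtain ⟨c, hc, h⟩ := bc_prime (V := V) (by norm_num) (by norm_num) gen13 chk13 hg
    rw [h]
    simp only [List.mem_cons, List.mem_nil_iff, or_false] at hc
    subst hc
    norm_num
  fifteen g hg := by
    obtain ⟨v, h1, h2, ξ, hξ, h3⟩ := bc_sg (V := V) (x := g) (N := 15) (by norm_num) (by norm_num)
      (hg ▸ pow_orderOf_eq_one g)
    obtain ⟨m, hm⟩ : ∃ m : ℤ, sm ξ (ms56 v) = m := ⟨_, sm_fifteen h2 hξ⟩
    refine ⟨m, fun j hj => ?_⟩
    rw [h3 j, h2.unit gen15 ((ZMod.isUnit_iff_coprime j 15).2 hj), hm]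
  three_inv g hg := by
    have h1 : g ^ 3 = 1 := hg ▸ pow_orderOf_eq_one g
    have h2 : g⁻¹ = g ^ 2 := by
      rw [inv_eq_iff_mul_eq_one, ← pow_succ']
      exact h1
    rw [h2]
    exact bc_gen (by norm_num) (by norm_num) gen3 h1 (by norm_num)
  seven_pow g hg j hj := bc_gen (by norm_num) (by norm_num) gen7 (hg ▸ pow_orderOf_eq_one g) hj

/-- **`E₇(2)` is admissible.** -/
theorem adm : Adm ↥(chevE7.group (ZMod 2)) := by
  have hfact : Fact (Nat.Prime 2) := ⟨Nat.prime_two⟩
  obtain ⟨M, hM⟩ := Cfsg.Agent.Blocks.ExistsModular.exists_isPModular Nat.prime_two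
  obtain ⟨V, hV⟩ := exists_above hM
  have : CharP (ResidueField V) 2 := hV.charP hM
  exact ⟨M, V, hM, hV, sg V, vals⟩

end Cfsg.Agent.H943.E7V.AdmMain
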