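import Cfsg.Agent.H943.E7V.Iface
import Cfsg.Agent.H657.BrauerChar

/-!
# Lifts of roots of unity, sums over stable multisets
-/

set_option autoImplicit false

namespace Cfsg.Agent.H943.E7V.Bra

open Cfsg.Agent.H657 IsLocalRing Module
open Polynomial (X C)

section Lift

variable {V : ValuationSubring ℂ} {p : ℕ} [Fact p.Prime] [CharP (ResidueField V) p]

theorem lift_one : lift p (1 : ResidueField V) = 1 := by
  have h := lift_residue (p := p) (V := V) (z := 1) ⟨1, by simpa using (Fact.out : p.Prime).one_lt.ne', by simp⟩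
  simpa using h

theorem lift_pow {r : ResidueField V} (hr : IsRU p r) (n : ℕ) : lift p (r ^ n) = lift p r ^ n := by
  obtain ⟨z, hz, hzr, hl⟩ := lift_spec hr
  have h1 : IsRU p ((z ^ n : V) : ℂ) := by
    obtain ⟨m, hm, h⟩ := hz
    refine ⟨m, hm, ?_⟩
    push_cast
    rw [← pow_mul, mul_comm, pow_mul, h, one_pow]
  have h2 := lift_residue (p := p) h1
  rw [map_pow, hzr] at h2
  rw [h2, hl]
  push_cast
  rfl

theorem lift_primitive {r : ResidueField V} {N : ℕ} (hN : ¬ p ∣ N) (hr : IsPrimitiveRoot r N) :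
    IsPrimitiveRoot (lift p r) N := by
  have hRU : IsRU p r := ⟨N, hN, hr.pow_eq_one⟩
  constructor
  · rw [← lift_pow hRU, hr.pow_eq_one, lift_one]
  · intro m hm
    obtain ⟨z, hz, hzr, hl⟩ := lift_spec hRU
    refine hr.dvd_of_pow_eq_one m ?_
    rw [← hzr, ← map_pow]
    have : z ^ m = 1 := by
      apply Subtype.ext
      push_cast
      rw [← hl, hm]
    rw [this, map_one]

end Lift

/-! ### stable multisets -/

/-- the multiset is stable under doubling and under changing the sign -/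
structure Stb {N : ℕ} (m : Multiset (ZMod N)) : Prop where
  dbl : m = m.map fun a => 2 * a
  neg : m.map (fun a => - a) = m

variable {N : ℕ} {m : Multiset (ZMod N)}

theorem Stb.pow (h : Stb m) (i : ℕ) : m.map (fun a => 2 ^ i * a) = m := by
  induction i with
  | zero => simp
  | succ i ih =>
    have h1 : m.map (fun a => 2 ^ (i + 1) * a) = (m.map fun a => 2 ^ i * a).map fun a => 2 * a := by
      rw [Multiset.map_map]
      refine Multiset.map_congr rfl fun a _ => ?_
      show 2 ^ (i + 1) * a = 2 * (2 ^ i * a)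
      rw [pow_succ]; ring
    rw [h1, ih]
    exact h.dbl.symm

/-- the units are generated by 2 and -1 -/
def Gen (N : ℕ) : Prop := ∀ u : ZMod N, IsUnit u → ∃ i : ℕ, u = 2 ^ i ∨ u = -2 ^ i

theorem Stb.unit (h : Stb m) (hG : Gen N) {u : ZMod N} (hu : IsUnit u) : m.map (fun a => u * a) = m := by
  obtain ⟨i, rfl | rfl⟩ := hG u hu
  · exact h.pow i
  · have h1 : m.map (fun a => -2 ^ i * a) = (m.map fun a => 2 ^ i * a).map fun a => - a := by
      rw [Multiset.map_map]
      refine Multiset.map_congr rfl fun a _ => ?_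
      show -2 ^ i * a = -(2 ^ i * a)
      ring
    rw [h1, h.pow i, h.neg]

theorem Stb.count (h : Stb m) (hG : Gen N) {u : ZMod N} (hu : IsUnit u) (a : ZMod N) :
    m.count (u * a) = m.count a := by
  classical
  conv_lhs => rw [← h.unit hG hu]
  exact Multiset.count_map_eq_count' _ _ hu.mul_right_injective a

/-- the sum of the powers of a root of unity over a multiset -/
noncomputable def sm (ξ : ℂ) (m : Multiset (ZMod N)) : ℂ := (m.map fun a => ξ ^ a.val).sum

theorem sm_eq [NeZero N] (ξ : ℂ) (m : Multiset (ZMod N)) : sm ξ m = ∑ u : ZMod N, (m.count u : ℂ) * ξ ^ u.val := by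
  classical
  unfold sm
  rw [Finset.sum_multiset_map_count]
  simp only [nsmul_eq_mul]
  refine Finset.sum_subset (Finset.subset_univ _) fun u _ hu => ?_
  rw [Multiset.mem_toFinset, ← Multiset.count_eq_zero] at hu
  rw [hu, Nat.cast_zero, zero_mul]

theorem card_eq [NeZero N] (m : Multiset (ZMod N)) : (Multiset.card m : ℂ) = ∑ u : ZMod N, (m.count u : ℂ) := by
  classical
  have h := Multiset.toFinset_sum_count_eq m
  rw [← h]
  push_cast
  refine Finset.sum_subset (Finset.subset_univ _) fun u _ hu => ?_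
  rw [Multiset.mem_toFinset, ← Multiset.count_eq_zero] at hu
  rw [hu, Nat.cast_zero]

theorem sum_range_zmod [NeZero N] {A : Type*} [AddCommMonoid A] (g : ZMod N → A) :
    ∑ u : ZMod N, g u = ∑ i ∈ Finset.range N, g (i : ZMod N) := by
  refine Finset.sum_bij' (fun u _ => u.val) (fun i _ => (i : ZMod N)) (fun u _ => ?_) (fun i _ => Finset.mem_univ _)
    (fun u _ => ?_) (fun i hi => ?_) (fun u _ => ?_)
  · exact Finset.mem_range.2 (ZMod.val_lt u)
  · exact ZMod.natCast_zmod_val u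
  · show ((i : ZMod N)).val = i
    rw [ZMod.val_natCast, Nat.mod_eq_of_lt (Finset.mem_range.1 hi)]
  · rw [ZMod.natCast_zmod_val]

theorem geom [NeZero N] (hN : 1 < N) {ξ : ℂ} (hξ : IsPrimitiveRoot ξ N) : ∑ u : ZMod N, ξ ^ u.val = 0 := by
  rw [sum_range_zmod, ← hξ.geom_sum_eq_zero hN]
  refine Finset.sum_congr rfl fun i hi => ?_
  rw [ZMod.val_natCast, Nat.mod_eq_of_lt (Finset.mem_range.1 hi)]

/-- the value at an element of prime order -/
theorem sm_prime (hp : N.Prime) (hG : Gen N) (h : Stb m) {ξ : ℂ} (hξ : IsPrimitiveRoot ξ N) {c : ℕ}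
    (hc : m.count 1 = c) : sm ξ m = (Multiset.card m : ℂ) - N * c := by
  classical
  have : Fact N.Prime := ⟨hp⟩
  have : NeZero N := ⟨hp.ne_zero⟩
  have h1 : ∀ u : ZMod N, (m.count u : ℂ) = c + if u = 0 then ((m.count 0 : ℂ) - c) else 0 := by
    intro u
    by_cases hu : u = 0
    · rw [if_pos hu, hu]; ring
    · rw [if_neg hu, add_zero, ← hc]
      have h2 := h.count hG (Ne.isUnit hu) 1
      rw [mul_one] at h2
      rw [h2]
  have h2 : ∑ u : ZMod N, (m.count u : ℂ) * ξ ^ u.val =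
      ∑ u : ZMod N, ((c : ℂ) * ξ ^ u.val + if u = 0 then ((m.count 0 : ℂ) - c) * ξ ^ u.val else 0) := by
    refine Finset.sum_congr rfl fun u _ => ?_
    rw [h1 u]
    split_ifs <;> ring
  have h3 : ∑ u : ZMod N, (m.count u : ℂ) = ∑ u : ZMod N, ((c : ℂ) + if u = 0 then ((m.count 0 : ℂ) - c) else 0) :=
    Finset.sum_congr rfl fun u _ => h1 u
  rw [sm_eq, card_eq, h2, h3]
  rw [Finset.sum_add_distrib, Finset.sum_add_distrib, ← Finset.mul_sum, geom hp.one_lt hξ,
    Finset.sum_ite_eq' Finset.univ (0 : ZMod N), Finset.sum_ite_eq' Finset.univ (0 : ZMod N),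
    if_pos (Finset.mem_univ _), if_pos (Finset.mem_univ _), ZMod.val_zero, pow_zero, Finset.sum_const, Finset.card_univ,
    ZMod.card, nsmul_eq_mul]
  ring

theorem gen3 : Gen 3 := by
  have h : ∀ u : ZMod 3, IsUnit u → ∃ i < 2, u = 2 ^ i ∨ u = -2 ^ i := by decide
  exact fun u hu => (h u hu).imp fun i hi => hi.2

theorem gen5 : Gen 5 := by
  have h : ∀ u : ZMod 5, IsUnit u → ∃ i < 4, u = 2 ^ i ∨ u = -2 ^ i := by decide
  exact fun u hu => (h u hu).imp fun i hi => hi.2

theorem gen7 : Gen 7 := by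
  have h : ∀ u : ZMod 7, IsUnit u → ∃ i < 3, u = 2 ^ i ∨ u = -2 ^ i := by decide
  exact fun u hu => (h u hu).imp fun i hi => hi.2

theorem gen13 : Gen 13 := by
  have h : ∀ u : ZMod 13, IsUnit u → ∃ i < 12, u = 2 ^ i ∨ u = -2 ^ i := by decide +kernel
  exact fun u hu => (h u hu).imp fun i hi => hi.2

theorem gen15 : Gen 15 := by
  have h : ∀ u : ZMod 15, IsUnit u → ∃ i < 4, u = 2 ^ i ∨ u = -2 ^ i := by decide +kernel
  exact fun u hu => (h u hu).imp fun i hi => hi.2

theorem sm_fifteen {m : Multiset (ZMod 15)} (h : Stb m) {ξ : ℂ} (hξ : IsPrimitiveRoot ξ 15) :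
    sm ξ m = (((m.count 0 : ℤ) + (m.count 1 : ℤ) - (m.count 3 : ℤ) - (m.count 5 : ℤ) : ℤ) : ℂ) := by
  have hc : ∀ (u a b : ZMod 15), IsUnit u → u * a = b → (m.count b : ℂ) = (m.count a : ℂ) := by
    rintro u a b hu rfl
    rw [h.count gen15 hu]
  have u2 : IsUnit (2 : ZMod 15) := by decide +kernel
  have u4 : IsUnit (4 : ZMod 15) := by decide +kernel
  have u7 : IsUnit (7 : ZMod 15) := by decide +kernel
  have u8 : IsUnit (8 : ZMod 15) := by decide +kernel
  have u11 : IsUnit (11 : ZMod 15) := by decide +kernel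
  have u13 : IsUnit (13 : ZMod 15) := by decide +kernel
  have u14 : IsUnit (14 : ZMod 15) := by decide +kernel
  have e1 : ξ ^ 5 ≠ 1 := hξ.pow_ne_one_of_pos_of_lt (by norm_num) (by norm_num)
  have e2 : ξ ^ 3 ≠ 1 := hξ.pow_ne_one_of_pos_of_lt (by norm_num) (by norm_num)
  have e0 : ξ ^ 15 = 1 := hξ.pow_eq_one
  have f1 : 1 + ξ ^ 5 + ξ ^ 10 = 0 := by
    have : (ξ ^ 5 - 1) * (1 + ξ ^ 5 + ξ ^ 10) = 0 := by linear_combination e0
    exact (mul_eq_zero.1 this).resolve_left (sub_ne_zero.2 e1)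
  have f2 : 1 + ξ ^ 3 + ξ ^ 6 + ξ ^ 9 + ξ ^ 12 = 0 := by
    have : (ξ ^ 3 - 1) * (1 + ξ ^ 3 + ξ ^ 6 + ξ ^ 9 + ξ ^ 12) = 0 := by linear_combination e0
    exact (mul_eq_zero.1 this).resolve_left (sub_ne_zero.2 e2)
  have f3 := geom (by norm_num) hξ
  rw [sum_range_zmod] at f3
  rw [sm_eq, sum_range_zmod]
  simp only [Finset.sum_range_succ, Finset.sum_range_zero, zero_add] at f3 ⊢
  have g2 := hc 2 1 2 u2 (by decide)
  have g4 := hc 4 1 4 u4 (by decide)
  have g7 := hc 7 1 7 u7 (by decide)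
  have g8 := hc 8 1 8 u8 (by decide)
  have g11 := hc 11 1 11 u11 (by decide)
  have g13 := hc 13 1 13 u13 (by decide)
  have g14 := hc 14 1 14 u14 (by decide)
  have g6 := hc 2 3 6 u2 (by decide)
  have g9 := hc 8 3 9 u8 (by decide)
  have g12 := hc 4 3 12 u4 (by decide)
  have g10 := hc 2 5 10 u2 (by decide)
  simp only [Nat.cast_ofNat, Nat.cast_zero, Nat.cast_one] at f3 ⊢
  rw [g2, g4, g7, g8, g11, g13, g14, g6, g9, g12, g10]
  have w0 : (0 : ZMod 15).val = 0 := rfl
  have w1 : (1 : ZMod 15).val = 1 := rfl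
  have w2 : (2 : ZMod 15).val = 2 := rfl
  have w3 : (3 : ZMod 15).val = 3 := rfl
  have w4 : (4 : ZMod 15).val = 4 := rfl
  have w5 : (5 : ZMod 15).val = 5 := rfl
  have w6 : (6 : ZMod 15).val = 6 := rfl
  have w7 : (7 : ZMod 15).val = 7 := rfl
  have w8 : (8 : ZMod 15).val = 8 := rfl
  have w9 : (9 : ZMod 15).val = 9 := rfl
  have w10 : (10 : ZMod 15).val = 10 := rfl
  have w11 : (11 : ZMod 15).val = 11 := rfl
  have w12 : (12 : ZMod 15).val = 12 := rfl
  have w13 : (13 : ZMod 15).val = 13 := rfl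
  have w14 : (14 : ZMod 15).val = 14 := rfl
  rw [w0, w1, w2, w3, w4, w5, w6, w7, w8, w9, w10, w11, w12, w13, w14] at f3 ⊢
  push_cast
  linear_combination (m.count 1 : ℂ) * f3 + ((m.count 3 : ℂ) - (m.count 1 : ℂ)) * f2 +
    ((m.count 5 : ℂ) - (m.count 1 : ℂ)) * f1

end Cfsg.Agent.H943.E7V.Bra
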