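import Mathlib
import Cfsg.Agent.LieClassical.SLGen

/-!
# `PSL(4, 3)` is generated by two elements of order 5 whose product is an involution (S5935)
-/

set_option autoImplicit false
set_option linter.unusedSectionVars false
set_option maxRecDepth 20000

namespace Cfsg.Agent.H943.E7V.L43

open Matrix

instance f3 : Fact (Nat.Prime 3) := ⟨by norm_num⟩

/-- the matrix given by a list -/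
def mt (l : List ℕ) : Matrix (Fin 4) (Fin 4) (ZMod 3) := Matrix.of fun i j => ((l.getD (4 * (i : ℕ) + (j : ℕ)) 0 : ℕ) : ZMod 3)

/-- an entry of the product -/
def mulE (a b : List ℕ) (t : ℕ) : ℕ :=
  (a.getD (4 * (t / 4)) 0 * b.getD (t % 4) 0 + a.getD (4 * (t / 4) + 1) 0 * b.getD (4 + t % 4) 0 +
    a.getD (4 * (t / 4) + 2) 0 * b.getD (8 + t % 4) 0 + a.getD (4 * (t / 4) + 3) 0 * b.getD (12 + t % 4) 0) % 3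

/-- the product -/
def mulL (a b : List ℕ) : List ℕ := (List.range 16).map (mulE a b)

theorem getD_mulL (a b : List ℕ) {t : ℕ} (ht : t < 16) : (mulL a b).getD t 0 = mulE a b t := by
  unfold mulL
  rw [List.getD_eq_getElem _ _ (by simpa using ht)]
  simp

theorem mt_mul (a b : List ℕ) : mt (mulL a b) = mt a * mt b := by
  ext i j
  rw [Matrix.mul_apply, Fin.sum_univ_four]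
  have hi := i.2
  have hj := j.2
  have h1 : (4 * (i : ℕ) + (j : ℕ)) / 4 = i := by omega
  have h2 : (4 * (i : ℕ) + (j : ℕ)) % 4 = j := by omega
  show (((mulL a b).getD (4 * (i : ℕ) + (j : ℕ)) 0 : ℕ) : ZMod 3) = _
  rw [getD_mulL a b (by omega), mulE, h1, h2, ZMod.natCast_mod]
  push_cast
  simp only [mt, Matrix.of_apply]
  simp only [Fin.val_zero, Fin.val_one, Fin.val_two, add_zero, mul_zero, zero_add, mul_one, show ((3 : Fin 4) : ℕ) = 3 from rfl,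
    Nat.reduceMul]

/-- the check of a straight line program -/
def chk (known : List (List ℕ)) : List (List ℕ × List ℕ × List ℕ) → Bool
  | [] => true
  | (a, b, c) :: t => decide (a ∈ known) && decide (b ∈ known) && decide (mulL a b = c) && chk (c :: known) t

theorem of_chk {T : Set (Matrix (Fin 4) (Fin 4) (ZMod 3))} (hT : ∀ A ∈ T, ∀ B ∈ T, A * B ∈ T) :
    ∀ (prog : List (List ℕ × List ℕ × List ℕ)) (known : List (List ℕ)), (∀ a ∈ known, mt a ∈ T) →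
      chk known prog = true → ∀ x ∈ prog, mt x.2.2 ∈ T := by
  intro prog
  induction prog with
  | nil => intro known _ _ x hx; exact absurd hx List.not_mem_nil
  | cons y t ih =>
    obtain ⟨a, b, c⟩ := y
    intro known hk hc x hx
    rw [chk, Bool.and_eq_true, Bool.and_eq_true, Bool.and_eq_true] at hc
    obtain ⟨⟨⟨h1, h2⟩, h3⟩, h4⟩ := hc
    have h5 : mt c ∈ T := by
      rw [← of_decide_eq_true h3, mt_mul]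
      exact hT _ (hk _ (of_decide_eq_true h1)) _ (hk _ (of_decide_eq_true h2))
    rcases List.mem_cons.1 hx with rfl | hx
    · exact h5
    · refine ih (c :: known) ?_ h4 x hx
      intro z hz
      rcases List.mem_cons.1 hz with rfl | hz
      · exact h5
      · exact hk z hz

/-- the first generator -/
def lX : List ℕ := [2,2,1,0,0,2,2,0,0,1,1,1,2,1,2,0]

/-- the second generator -/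
def lY : List ℕ := [1,0,0,1,0,0,2,2,2,0,2,2,2,2,2,2]

/-- the program -/
def prog : List (List ℕ × List ℕ × List ℕ) :=
  [([2,2,1,0,0,2,2,0,0,1,1,1,2,1,2,0], [2,2,1,0,0,2,2,0,0,1,1,1,2,1,2,0], [1,0,1,1,0,0,0,2,2,1,2,1,1,2,0,2]),
   ([1,0,1,1,0,0,0,2,2,1,2,1,1,2,0,2], [2,2,1,0,0,2,2,0,0,1,1,1,2,1,2,0], [1,1,1,1,1,2,1,0,0,0,2,2,0,2,0,0]),
   ([1,0,1,1,0,0,0,2,2,1,2,1,1,2,0,2], [1,0,1,1,0,0,0,2,2,1,2,1,1,2,0,2], [1,0,0,1,2,1,0,1,1,1,0,2,0,1,1,0]),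
   ([1,0,0,1,2,1,0,1,1,1,0,2,0,1,1,0], [2,2,1,0,0,2,2,0,0,1,1,1,2,1,2,0], [1,0,0,0,0,1,0,0,0,0,1,0,0,0,0,1]),
   ([1,0,0,1,0,0,2,2,2,0,2,2,2,2,2,2], [1,0,0,1,0,0,2,2,2,0,2,2,2,2,2,2], [0,2,2,0,2,1,2,2,1,1,2,1,1,1,0,2]),
   ([0,2,2,0,2,1,2,2,1,1,2,1,1,1,0,2], [1,0,0,1,0,0,2,2,2,0,2,2,2,2,2,2], [1,0,2,2,1,1,1,0,1,2,2,0,2,1,0,1]),
   ([0,2,2,0,2,1,2,2,1,1,2,1,1,1,0,2], [0,2,2,0,2,1,2,2,1,1,2,1,1,1,0,2], [0,1,2,0,0,0,1,2,2,0,2,0,1,2,1,0]),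
   ([1,0,0,1,0,0,2,2,2,0,2,2,2,2,2,2], [1,1,1,1,1,2,1,0,0,0,2,2,0,2,0,0], [1,0,1,1,0,1,1,1,2,0,0,0,1,1,2,0]),
   ([1,0,1,1,0,1,1,1,2,0,0,0,1,1,2,0], [0,2,2,0,2,1,2,2,1,1,2,1,1,1,0,2], [2,1,1,0,1,0,1,2,0,1,1,0,1,2,2,1]),
   ([2,1,1,0,1,0,1,2,0,1,1,0,1,2,2,1], [1,0,0,1,2,1,0,1,1,1,0,2,0,1,1,0], [2,2,0,2,2,0,2,0,0,2,0,0,1,2,1,1]),
   ([2,2,0,2,2,0,2,0,0,2,0,0,1,2,1,1], [0,2,2,0,2,1,2,2,1,1,2,1,1,1,0,2], [0,2,2,2,2,0,2,2,1,2,1,1,0,0,2,1]),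
   ([0,2,2,2,2,0,2,2,1,2,1,1,0,0,2,1], [1,1,1,1,1,2,1,0,0,0,2,2,0,2,0,0], [2,2,0,1,2,0,0,0,0,1,2,0,0,2,1,1]),
   ([2,2,0,1,2,0,0,0,0,1,2,0,0,2,1,1], [1,0,2,2,1,1,1,0,1,2,2,0,2,1,0,1], [0,0,0,2,2,0,1,1,0,2,2,0,2,2,1,1]),
   ([0,0,0,2,2,0,1,1,0,2,2,0,2,2,1,1], [1,1,1,1,1,2,1,0,0,0,2,2,0,2,0,0], [0,1,0,0,2,1,1,1,2,1,0,1,1,2,0,1]),
   ([0,1,0,0,2,1,1,1,2,1,0,1,1,2,0,1], [1,0,0,1,0,0,2,2,2,0,2,2,2,2,2,2], [0,0,2,2,0,2,0,2,1,2,1,0,0,2,0,1]),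
   ([0,0,2,2,0,2,0,2,1,2,1,0,0,2,0,1], [1,1,1,1,1,2,1,0,0,0,2,2,0,2,0,0], [0,1,1,1,2,2,2,0,0,2,2,0,2,0,2,0]),
   ([0,1,1,1,2,2,2,0,0,2,2,0,2,0,2,0], [1,0,2,2,1,1,1,0,1,2,2,0,2,1,0,1], [1,1,0,1,0,0,1,1,1,0,0,0,1,1,2,1]),
   ([1,1,0,1,0,0,1,1,1,0,0,0,1,1,2,1], [1,0,1,1,0,0,0,2,2,1,2,1,1,2,0,2], [2,2,1,2,0,0,2,0,1,0,1,1,0,1,2,1]),
   ([2,2,1,2,0,0,2,0,1,0,1,1,0,1,2,1], [1,0,0,1,0,0,2,2,2,0,2,2,2,2,2,2], [2,1,1,0,1,0,1,1,2,2,1,2,0,2,2,2]),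
   ([2,1,1,0,1,0,1,1,2,2,1,2,0,2,2,2], [1,1,1,1,1,2,1,0,0,0,2,2,0,2,0,0], [0,1,2,1,1,0,0,0,1,1,0,1,2,2,0,1]),
   ([0,1,2,1,1,0,0,0,1,1,0,1,2,2,0,1], [0,2,2,0,2,1,2,2,1,1,2,1,1,1,0,2], [2,1,0,0,0,2,2,0,0,1,1,1,2,1,2,0]),
   ([2,1,0,0,0,2,2,0,0,1,1,1,2,1,2,0], [1,0,0,1,2,1,0,1,1,1,0,2,0,1,1,0], [1,1,0,0,0,1,0,0,0,0,1,0,0,0,0,1]),
   ([1,0,1,1,0,0,0,2,2,1,2,1,1,2,0,2], [0,2,2,0,2,1,2,2,1,1,2,1,1,1,0,2], [2,1,1,0,2,2,0,1,2,2,1,0,0,0,0,2]),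
   ([2,1,1,0,2,2,0,1,2,2,1,0,0,0,0,2], [1,0,0,1,2,1,0,1,1,1,0,2,0,1,1,0], [2,2,0,2,0,0,1,1,1,0,0,0,0,2,2,0]),
   ([2,2,0,2,0,0,1,1,1,0,0,0,0,2,2,0], [0,2,2,0,2,1,2,2,1,1,2,1,1,1,0,2], [0,2,2,2,2,2,2,0,0,2,2,0,0,1,2,0]),
   ([0,2,2,2,2,2,2,0,0,2,2,0,0,1,2,0], [1,0,1,1,0,0,0,2,2,1,2,1,1,2,0,2], [0,0,1,1,0,2,0,2,1,2,1,0,1,2,1,1]),
   ([0,0,1,1,0,2,0,2,1,2,1,0,1,2,1,1], [0,2,2,0,2,1,2,2,1,1,2,1,1,1,0,2], [2,2,2,0,0,1,1,2,2,2,2,2,0,0,2,1]),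
   ([2,2,2,0,0,1,1,2,2,2,2,2,0,0,2,1], [1,0,1,1,0,0,0,2,2,1,2,1,1,2,0,2], [0,2,0,2,1,2,2,1,2,0,0,0,2,1,1,1]),
   ([0,2,0,2,1,2,2,1,2,0,0,0,2,1,1,1], [0,1,2,0,0,0,1,2,2,0,2,0,1,2,1,0], [2,1,1,1,2,0,0,1,0,2,1,0,0,1,2,2]),
   ([2,1,1,1,2,0,0,1,0,2,1,0,0,1,2,2], [1,0,1,1,0,0,0,2,2,1,2,1,1,2,0,2], [2,0,1,1,0,2,2,1,2,1,2,2,0,0,1,2]),
   ([2,0,1,1,0,2,2,1,2,1,2,2,0,0,1,2], [1,0,2,2,1,1,1,0,1,2,2,0,2,1,0,1], [2,0,0,2,0,1,0,1,0,1,0,0,2,1,2,2]),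
   ([2,0,0,2,0,1,0,1,0,1,0,0,2,1,2,2], [2,2,1,0,0,2,2,0,0,1,1,1,2,1,2,0], [2,0,0,0,2,0,1,0,0,2,2,0,2,1,1,2]),
   ([2,0,0,0,2,0,1,0,0,2,2,0,2,1,1,2], [0,2,2,0,2,1,2,2,1,1,2,1,1,1,0,2], [0,1,1,0,1,2,0,1,0,1,2,0,2,2,2,1]),
   ([0,1,1,0,1,2,0,1,0,1,2,0,2,2,2,1], [1,1,1,1,1,2,1,0,0,0,2,2,0,2,0,0], [1,2,0,2,0,1,0,1,1,2,2,1,1,2,2,0]),
   ([1,2,0,2,0,1,0,1,1,2,2,1,1,2,2,0], [1,0,2,2,1,1,1,0,1,2,2,0,2,1,0,1], [1,1,1,1,0,2,1,1,1,1,2,0,2,0,2,2]),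
   ([1,1,1,1,0,2,1,1,1,1,2,0,2,0,2,2], [2,2,1,0,0,2,2,0,0,1,1,1,2,1,2,0], [1,0,0,1,2,0,1,1,2,0,2,2,2,2,2,2]),
   ([1,0,0,1,2,0,1,1,2,0,2,2,2,2,2,2], [0,1,2,0,0,0,1,2,2,0,2,0,1,2,1,0], [1,0,0,0,0,1,1,0,0,0,1,0,0,0,0,1]),
   ([1,0,0,1,0,0,2,2,2,0,2,2,2,2,2,2], [1,0,1,1,0,0,0,2,2,1,2,1,1,2,0,2], [2,2,1,0,0,0,1,0,2,0,0,2,2,0,0,0]),
   ([2,2,1,0,0,0,1,0,2,0,0,2,2,0,0,0], [0,2,2,0,2,1,2,2,1,1,2,1,1,1,0,2], [2,1,1,2,1,1,2,1,2,0,1,1,0,1,1,0]),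
   ([2,1,1,2,1,1,2,1,2,0,1,1,0,1,1,0], [1,1,1,1,1,2,1,0,0,0,2,2,0,2,0,0], [0,2,2,1,2,2,0,2,2,1,1,1,1,2,0,2]),
   ([0,2,2,1,2,2,0,2,2,1,1,1,1,2,0,2], [0,2,2,0,2,1,2,2,1,1,2,1,1,1,0,2], [1,2,2,2,0,2,2,2,1,1,2,2,0,0,0,2]),
   ([1,2,2,2,0,2,2,2,1,1,2,2,0,0,0,2], [1,0,1,1,0,0,0,2,2,1,2,1,1,2,0,2], [1,0,2,2,0,0,1,1,1,0,2,0,2,1,0,1]),
   ([1,0,2,2,0,0,1,1,1,0,2,0,2,1,0,1], [0,2,2,0,2,1,2,2,1,1,2,1,1,1,0,2], [1,0,0,0,2,2,2,0,2,1,0,2,0,0,0,1]),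
   ([1,0,0,0,2,2,2,0,2,1,0,2,0,0,0,1], [1,0,1,1,0,0,0,2,2,1,2,1,1,2,0,2], [1,0,1,1,0,2,0,2,1,1,2,2,1,2,0,2]),
   ([1,0,1,1,0,2,0,2,1,1,2,2,1,2,0,2], [0,2,2,0,2,1,2,2,1,1,2,1,1,1,0,2], [2,1,1,0,0,1,1,2,0,1,2,2,0,0,0,2]),
   ([2,1,1,0,0,1,1,2,0,1,2,2,0,0,0,2], [1,0,1,1,0,0,0,2,2,1,2,1,1,2,0,2], [1,1,1,2,1,2,2,1,0,0,1,2,2,1,0,1]),
   ([1,1,1,2,1,2,2,1,0,0,1,2,2,1,0,1], [1,0,2,2,1,1,1,0,1,2,2,0,2,1,0,1], [1,2,2,1,1,1,2,0,2,1,2,2,2,2,2,2]),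
   ([1,2,2,1,1,1,2,0,2,1,2,2,2,2,2,2], [1,0,1,1,0,0,0,2,2,1,2,1,1,2,0,2], [0,1,2,0,2,2,2,2,2,0,0,1,2,0,0,0]),
   ([0,1,2,0,2,2,2,2,2,0,0,1,2,0,0,0], [0,2,2,0,2,1,2,2,1,1,2,1,1,1,0,2], [1,0,0,1,2,1,0,1,1,2,1,2,0,1,1,0]),
   ([1,0,0,1,2,1,0,1,1,2,1,2,0,1,1,0], [2,2,1,0,0,2,2,0,0,1,1,1,2,1,2,0], [1,0,0,0,0,1,0,0,0,0,1,1,0,0,0,1]),
   ([0,2,2,0,2,1,2,2,1,1,2,1,1,1,0,2], [1,1,1,1,1,2,1,0,0,0,2,2,0,2,0,0], [2,1,0,1,0,2,1,0,2,2,0,2,2,1,2,1]),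
   ([2,1,0,1,0,2,1,0,2,2,0,2,2,1,2,1], [0,2,2,0,2,1,2,2,1,1,2,1,1,1,0,2], [0,0,0,1,2,0,0,2,0,2,2,2,2,2,1,0]),
   ([0,0,0,1,2,0,0,2,0,2,2,2,2,2,1,0], [1,0,1,1,0,0,0,2,2,1,2,1,1,2,0,2], [1,2,0,2,1,1,2,0,0,0,1,1,1,1,1,1]),
   ([1,2,0,2,1,1,2,0,0,0,1,1,1,1,1,1], [0,2,2,0,2,1,2,2,1,1,2,1,1,1,0,2], [0,0,0,2,1,2,2,1,2,2,2,0,1,2,0,2]),
   ([0,0,0,2,1,2,2,1,2,2,2,0,1,2,0,2], [1,0,1,1,0,0,0,2,2,1,2,1,1,2,0,2], [2,1,0,1,0,1,2,0,0,2,0,2,0,1,1,0]),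
   ([2,1,0,1,0,1,2,0,0,2,0,2,0,1,1,0], [0,2,2,0,2,1,2,2,1,1,2,1,1,1,0,2], [0,0,0,1,1,0,0,1,0,1,1,2,0,2,1,0]),
   ([0,0,0,1,1,0,0,1,0,1,1,2,0,2,1,0], [1,0,1,1,0,0,0,2,2,1,2,1,1,2,0,2], [1,2,0,2,2,2,1,0,1,2,2,1,2,1,2,2]),
   ([1,2,0,2,2,2,1,0,1,2,2,1,2,1,2,2], [1,0,2,2,1,1,1,0,1,2,2,0,2,1,0,1], [1,1,1,1,2,1,2,1,1,1,2,0,0,1,0,0]),
   ([1,1,1,1,2,1,2,1,1,1,2,0,0,1,0,0], [2,2,1,0,0,2,2,0,0,1,1,1,2,1,2,0], [1,0,0,1,0,0,2,2,2,0,2,2,0,2,2,0]),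
   ([1,0,0,1,0,0,2,2,2,0,2,2,0,2,2,0], [0,1,2,0,0,0,1,2,2,0,2,0,1,2,1,0], [1,0,0,0,0,1,0,0,0,0,1,0,1,0,0,1]),
   ([1,1,0,0,0,1,0,0,0,0,1,0,0,0,0,1], [1,1,0,0,0,1,0,0,0,0,1,0,0,0,0,1], [1,2,0,0,0,1,0,0,0,0,1,0,0,0,0,1]),
   ([1,0,0,0,0,1,1,0,0,0,1,0,0,0,0,1], [1,0,0,0,0,1,1,0,0,0,1,0,0,0,0,1], [1,0,0,0,0,1,2,0,0,0,1,0,0,0,0,1]),
   ([1,1,0,0,0,1,0,0,0,0,1,0,0,0,0,1], [1,0,0,0,0,1,1,0,0,0,1,0,0,0,0,1], [1,1,1,0,0,1,1,0,0,0,1,0,0,0,0,1]),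
   ([1,2,0,0,0,1,0,0,0,0,1,0,0,0,0,1], [1,0,0,0,0,1,2,0,0,0,1,0,0,0,0,1], [1,2,1,0,0,1,2,0,0,0,1,0,0,0,0,1]),
   ([1,1,1,0,0,1,1,0,0,0,1,0,0,0,0,1], [1,2,1,0,0,1,2,0,0,0,1,0,0,0,0,1], [1,0,1,0,0,1,0,0,0,0,1,0,0,0,0,1]),
   ([1,0,0,0,0,1,0,0,0,0,1,1,0,0,0,1], [1,0,0,0,0,1,0,0,0,0,1,1,0,0,0,1], [1,0,0,0,0,1,0,0,0,0,1,2,0,0,0,1]),
   ([1,0,0,0,0,1,1,0,0,0,1,0,0,0,0,1], [1,0,0,0,0,1,0,0,0,0,1,1,0,0,0,1], [1,0,0,0,0,1,1,1,0,0,1,1,0,0,0,1]),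
   ([1,0,0,0,0,1,2,0,0,0,1,0,0,0,0,1], [1,0,0,0,0,1,0,0,0,0,1,2,0,0,0,1], [1,0,0,0,0,1,2,1,0,0,1,2,0,0,0,1]),
   ([1,0,0,0,0,1,1,1,0,0,1,1,0,0,0,1], [1,0,0,0,0,1,2,1,0,0,1,2,0,0,0,1], [1,0,0,0,0,1,0,1,0,0,1,0,0,0,0,1]),
   ([1,0,0,0,0,1,0,0,0,0,1,0,1,0,0,1], [1,0,0,0,0,1,0,0,0,0,1,0,1,0,0,1], [1,0,0,0,0,1,0,0,0,0,1,0,2,0,0,1]),
   ([1,0,0,0,0,1,0,0,0,0,1,1,0,0,0,1], [1,0,0,0,0,1,0,0,0,0,1,0,1,0,0,1], [1,0,0,0,0,1,0,0,1,0,1,1,1,0,0,1]),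
   ([1,0,0,0,0,1,0,0,0,0,1,2,0,0,0,1], [1,0,0,0,0,1,0,0,0,0,1,0,2,0,0,1], [1,0,0,0,0,1,0,0,1,0,1,2,2,0,0,1]),
   ([1,0,0,0,0,1,0,0,1,0,1,1,1,0,0,1], [1,0,0,0,0,1,0,0,1,0,1,2,2,0,0,1], [1,0,0,0,0,1,0,0,1,0,1,0,0,0,0,1]),
   ([1,0,0,0,0,1,0,0,0,0,1,0,1,0,0,1], [1,1,0,0,0,1,0,0,0,0,1,0,0,0,0,1], [1,1,0,0,0,1,0,0,0,0,1,0,1,1,0,1]),
   ([1,0,0,0,0,1,0,0,0,0,1,0,2,0,0,1], [1,2,0,0,0,1,0,0,0,0,1,0,0,0,0,1], [1,2,0,0,0,1,0,0,0,0,1,0,2,1,0,1]),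
   ([1,1,0,0,0,1,0,0,0,0,1,0,1,1,0,1], [1,2,0,0,0,1,0,0,0,0,1,0,2,1,0,1], [1,0,0,0,0,1,0,0,0,0,1,0,0,1,0,1]),
   ([1,0,1,0,0,1,0,0,0,0,1,0,0,0,0,1], [1,0,1,0,0,1,0,0,0,0,1,0,0,0,0,1], [1,0,2,0,0,1,0,0,0,0,1,0,0,0,0,1]),
   ([1,0,0,0,0,1,0,0,0,0,1,0,1,0,0,1], [1,0,1,0,0,1,0,0,0,0,1,0,0,0,0,1], [1,0,1,0,0,1,0,0,0,0,1,0,1,0,1,1]),
   ([1,0,0,0,0,1,0,0,0,0,1,0,2,0,0,1], [1,0,2,0,0,1,0,0,0,0,1,0,0,0,0,1], [1,0,2,0,0,1,0,0,0,0,1,0,2,0,1,1]),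
   ([1,0,1,0,0,1,0,0,0,0,1,0,1,0,1,1], [1,0,2,0,0,1,0,0,0,0,1,0,2,0,1,1], [1,0,0,0,0,1,0,0,0,0,1,0,0,0,1,1]),
   ([1,0,0,0,0,1,0,1,0,0,1,0,0,0,0,1], [1,0,0,0,0,1,0,1,0,0,1,0,0,0,0,1], [1,0,0,0,0,1,0,2,0,0,1,0,0,0,0,1]),
   ([1,1,0,0,0,1,0,0,0,0,1,0,0,0,0,1], [1,0,0,0,0,1,0,1,0,0,1,0,0,0,0,1], [1,1,0,1,0,1,0,1,0,0,1,0,0,0,0,1]),
   ([1,2,0,0,0,1,0,0,0,0,1,0,0,0,0,1], [1,0,0,0,0,1,0,2,0,0,1,0,0,0,0,1], [1,2,0,1,0,1,0,2,0,0,1,0,0,0,0,1]),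
   ([1,1,0,1,0,1,0,1,0,0,1,0,0,0,0,1], [1,2,0,1,0,1,0,2,0,0,1,0,0,0,0,1], [1,0,0,1,0,1,0,0,0,0,1,0,0,0,0,1]),
   ([1,0,0,0,0,1,0,0,1,0,1,0,0,0,0,1], [1,0,0,0,0,1,0,0,1,0,1,0,0,0,0,1], [1,0,0,0,0,1,0,0,2,0,1,0,0,0,0,1]),
   ([1,0,0,0,0,1,1,0,0,0,1,0,0,0,0,1], [1,0,0,0,0,1,0,0,1,0,1,0,0,0,0,1], [1,0,0,0,1,1,1,0,1,0,1,0,0,0,0,1]),
   ([1,0,0,0,0,1,2,0,0,0,1,0,0,0,0,1], [1,0,0,0,0,1,0,0,2,0,1,0,0,0,0,1], [1,0,0,0,1,1,2,0,2,0,1,0,0,0,0,1]),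
   ([1,0,0,0,1,1,1,0,1,0,1,0,0,0,0,1], [1,0,0,0,1,1,2,0,2,0,1,0,0,0,0,1], [1,0,0,0,1,1,0,0,0,0,1,0,0,0,0,1]),
   ([1,0,0,0,0,1,0,0,0,0,1,0,0,1,0,1], [1,0,0,0,0,1,0,0,0,0,1,0,0,1,0,1], [1,0,0,0,0,1,0,0,0,0,1,0,0,2,0,1]),
   ([1,0,0,0,0,1,0,0,0,0,1,1,0,0,0,1], [1,0,0,0,0,1,0,0,0,0,1,0,0,1,0,1], [1,0,0,0,0,1,0,0,0,1,1,1,0,1,0,1]),
   ([1,0,0,0,0,1,0,0,0,0,1,2,0,0,0,1], [1,0,0,0,0,1,0,0,0,0,1,0,0,2,0,1], [1,0,0,0,0,1,0,0,0,1,1,2,0,2,0,1]),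
   ([1,0,0,0,0,1,0,0,0,1,1,1,0,1,0,1], [1,0,0,0,0,1,0,0,0,1,1,2,0,2,0,1], [1,0,0,0,0,1,0,0,0,1,1,0,0,0,0,1])]

theorem chk_prog : chk [lX, lY] prog = true := by decide +kernel

/-- the transvections -/
def lE (i j : Fin 4) : List ℕ := (List.range 16).map fun t =>
  if t = 4 * (i : ℕ) + (j : ℕ) then 1 else if t / 4 = t % 4 then 1 else 0

theorem mt_lE : ∀ i j : Fin 4, i ≠ j → mt (lE i j) = Matrix.transvection i j 1 := by decide +kernel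

theorem lE_mem : ∀ i j : Fin 4, i ≠ j → ∃ x ∈ prog, x.2.2 = lE i j := by decide +kernel

/-- the first generator -/
def X : SpecialLinearGroup (Fin 4) (ZMod 3) := ⟨mt lX, by decide +kernel⟩

/-- the second generator -/
def Y : SpecialLinearGroup (Fin 4) (ZMod 3) := ⟨mt lY, by decide +kernel⟩

theorem X_ne : mt lX 0 1 ≠ 0 := by decide +kernel

theorem Y_ne : mt lY 0 3 ≠ 0 := by decide +kernel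

theorem X_pow : X ^ 5 = 1 := by
  have h1 : mulL (mulL (mulL (mulL lX lX) lX) lX) lX = [1,0,0,0,0,1,0,0,0,0,1,0,0,0,0,1] := by decide +kernel
  have h2 : mt [1,0,0,0,0,1,0,0,0,0,1,0,0,0,0,1] = 1 := by decide +kernel
  apply Subtype.ext
  rw [pow_succ, pow_succ, pow_succ, pow_succ, pow_one]
  change mt lX * mt lX * mt lX * mt lX * mt lX = (1 : Matrix _ _ _)
  rw [← mt_mul, ← mt_mul, ← mt_mul, ← mt_mul, h1, h2]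

theorem Y_pow : Y ^ 5 = 1 := by
  have h1 : mulL (mulL (mulL (mulL lY lY) lY) lY) lY = [1,0,0,0,0,1,0,0,0,0,1,0,0,0,0,1] := by decide +kernel
  have h2 : mt [1,0,0,0,0,1,0,0,0,0,1,0,0,0,0,1] = 1 := by decide +kernel
  apply Subtype.ext
  rw [pow_succ, pow_succ, pow_succ, pow_succ, pow_one]
  change mt lY * mt lY * mt lY * mt lY * mt lY = (1 : Matrix _ _ _)
  rw [← mt_mul, ← mt_mul, ← mt_mul, ← mt_mul, h1, h2]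

theorem XY_sq : (X * Y) ^ 2 = 1 := by
  have h1 : mulL (mulL lX lY) (mulL lX lY) = [1,0,0,0,0,1,0,0,0,0,1,0,0,0,0,1] := by decide +kernel
  have h2 : mt [1,0,0,0,0,1,0,0,0,0,1,0,0,0,0,1] = 1 := by decide +kernel
  apply Subtype.ext
  rw [pow_two]
  change mt lX * mt lY * (mt lX * mt lY) = (1 : Matrix _ _ _)
  rw [← mt_mul, ← mt_mul, h1, h2]

theorem closure_XY : Subgroup.closure {X, Y} = (⊤ : Subgroup (SpecialLinearGroup (Fin 4) (ZMod 3))) := by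
  have hX : X ∈ Subgroup.closure {X, Y} := Subgroup.subset_closure (by simp)
  have hY : Y ∈ Subgroup.closure {X, Y} := Subgroup.subset_closure (by simp)
  let T : Set (Matrix (Fin 4) (Fin 4) (ZMod 3)) := {A | ∃ g ∈ Subgroup.closure {X, Y}, (g : Matrix _ _ _) = A}
  have hT : ∀ A ∈ T, ∀ B ∈ T, A * B ∈ T := by
    rintro _ ⟨g, hg, rfl⟩ _ ⟨h, hh, rfl⟩
    exact ⟨g * h, mul_mem hg hh, rfl⟩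
  have h1 := of_chk hT prog [lX, lY] (by
    intro a ha
    rcases List.mem_cons.1 ha with rfl | ha
    · exact ⟨X, hX, rfl⟩
    · rcases List.mem_cons.1 ha with rfl | ha
      · exact ⟨Y, hY, rfl⟩
      · exact absurd ha List.not_mem_nil) chk_prog
  rw [← top_le_iff, ← LieClassical.SLGen.closure_transvections, Subgroup.closure_le]
  rintro _ ⟨i, j, hij, c, rfl⟩
  obtain ⟨x, hx, hxe⟩ := lE_mem i j hij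
  obtain ⟨g, hg, hgx⟩ := h1 x hx
  rw [hxe, mt_lE i j hij] at hgx
  have h2 : SpecialLinearGroup.transvection hij c = g ^ c.val := by
    have h3 : ∀ n : ℕ, ((g ^ n : SpecialLinearGroup (Fin 4) (ZMod 3)) : Matrix (Fin 4) (Fin 4) (ZMod 3)) =
        Matrix.transvection i j (n : ZMod 3) := by
      intro n
      induction n with
      | zero =>
        rw [pow_zero, Nat.cast_zero, Matrix.transvection_zero]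
        rfl
      | succ n ih =>
        rw [pow_succ]
        change ((g ^ n : SpecialLinearGroup (Fin 4) (ZMod 3)) : Matrix (Fin 4) (Fin 4) (ZMod 3)) * (g : Matrix _ _ _) = _
        rw [ih, hgx, Matrix.transvection_mul_transvection_same _ _ hij]
        push_cast
        rfl
    apply Subtype.ext
    rw [h3, ZMod.natCast_val, ZMod.cast_id]
    rfl
  rw [h2]
  exact pow_mem hg _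

/-- **`PSL(4, 3)` is a `(2, 5, 5)`-group.** -/
theorem exists_gen : ∃ x y : ProjectiveSpecialLinearGroup (Fin 4) (ZMod 3), orderOf x = 5 ∧ orderOf y = 5 ∧
    (x * y) ^ 2 = 1 ∧ Subgroup.closure {x, y} = ⊤ := by
  let f : SpecialLinearGroup (Fin 4) (ZMod 3) →* ProjectiveSpecialLinearGroup (Fin 4) (ZMod 3) := QuotientGroup.mk' _
  have hfs : Function.Surjective f := QuotientGroup.mk'_surjective _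
  have hne : ∀ (g : SpecialLinearGroup (Fin 4) (ZMod 3)) (i j : Fin 4), i ≠ j → g i j ≠ 0 → f g ≠ 1 := by
    intro g i j hij hg h
    have h1 : g ∈ Subgroup.center (SpecialLinearGroup (Fin 4) (ZMod 3)) := (QuotientGroup.eq_one_iff _).1 h
    rw [Matrix.SpecialLinearGroup.mem_center_iff] at h1
    obtain ⟨r, -, hr⟩ := h1
    apply hg
    have h2 : (g : Matrix (Fin 4) (Fin 4) (ZMod 3)) i j = 0 := by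
      rw [← hr, Matrix.scalar_apply, Matrix.diagonal_apply_ne _ hij]
    exact h2
  have : Fact (Nat.Prime 5) := ⟨by norm_num⟩
  refine ⟨f X, f Y, ?_, ?_, ?_, ?_⟩
  · apply orderOf_eq_prime
    · rw [← map_pow, X_pow, map_one]
    · exact hne X 0 1 (by decide) X_ne
  · apply orderOf_eq_prime
    · rw [← map_pow, Y_pow, map_one]
    · exact hne Y 0 3 (by decide) Y_ne
  · rw [← map_mul, ← map_pow, XY_sq, map_one]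
  · have h1 : ({f X, f Y} : Set (ProjectiveSpecialLinearGroup (Fin 4) (ZMod 3))) = f '' {X, Y} := by
      rw [Set.image_pair]
    rw [h1, ← MonoidHom.map_closure, closure_XY]
    exact Subgroup.map_top_of_surjective f hfs

end Cfsg.Agent.H943.E7V.L43
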