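import Cfsg.Agent.H943.E7V.Scott
import Cfsg.Agent.H943.E7V.L43
import Cfsg.Agent.H61.E7.L219
import Cfsg.Agent.S0243
import Cfsg.Agent.S0249
import Cfsg.Agent.S0813
import Cfsg.Agent.ClassicalGeometry.PSL2Basic

/-!
# Rows of S5935: `PSL(2, 19)`, `PSL(4, 3)`
-/

set_option autoImplicit false
set_option linter.unusedSectionVars false

namespace Cfsg.Agent.H943.E7V.Rows

open Cfsg Cfsg.Lie

section psl

variable {F : Type*} [Field F] [Fintype F]

theorem card_pgl {n : ℕ} (hn : 2 ≤ n) : Nat.card (Matrix.ProjGenLinGroup (Fin n) F) =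
    Nat.gcd n (Fintype.card F - 1) * Nat.card (Matrix.ProjectiveSpecialLinearGroup (Fin n) F) := by
  classical
  have : NeZero n := ⟨by omega⟩
  have h1 := Cfsg.Agent.S0243.result (F := F) rfl n hn
  have h2 : Nat.card (Matrix.ProjGenLinGroup (Fin n) F) * (Fintype.card F - 1) = Nat.card (Matrix.GeneralLinearGroup (Fin n) F) :=
    Cfsg.Agent.ClassicalGeometry.PSL2Basic.card_PGL_mul (Fin n) F
  rw [Matrix.card_GL_field, ← h1] at h2
  have h3 : 0 < Fintype.card F - 1 := by
    have := Fintype.one_lt_card (α := F)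
    omega
  have h4 : Nat.card (Matrix.ProjGenLinGroup (Fin n) F) * (Fintype.card F - 1) =
    (Nat.gcd n (Fintype.card F - 1) * Nat.card (Matrix.ProjectiveSpecialLinearGroup (Fin n) F)) * (Fintype.card F - 1) := by
    rw [h2]; ring
  exact Nat.eq_of_mul_eq_mul_right h3 h4

theorem finite_psl (n : ℕ) : Finite (Matrix.ProjectiveSpecialLinearGroup (Fin n) F) := by
  unfold Matrix.ProjectiveSpecialLinearGroup
  infer_instance

/-- the order of the automorphism group -/
theorem card_aut {p f n : ℕ} (hp : p.Prime) (hf : 1 ≤ f) (hF : Fintype.card F = p ^ f) (hn : 2 ≤ n)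
    (h2 : n = 2 → 4 ≤ p ^ f) : Nat.card (MulAut (Matrix.ProjectiveSpecialLinearGroup (Fin n) F)) =
      Nat.card (Matrix.ProjectiveSpecialLinearGroup (Fin n) F) * ((if n = 2 then 1 else 2) * f * Nat.gcd n (p ^ f - 1)) := by
  have := Fact.mk hp
  rw [S0813.result p f hf hF n hn h2, card_pgl hn, hF]
  ring

end psl

theorem not_comm {S : Type*} [Group S] [Finite S] [IsSimpleGroup S] (h : ¬ (Nat.card S).Prime) :
    ¬ IsMulCommutative S := by
  intro hc
  let _ : CommGroup S := { (inferInstance : Group S) with mul_comm := hc.is_comm.comm }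
  exact h (IsSimpleGroup.prime_card (α := S))

theorem simple_two {F : Type*} [Field F] [Fintype F] (h4 : 4 ≤ Fintype.card F) :
    IsSimpleGroup (Matrix.ProjectiveSpecialLinearGroup (Fin 2) F) := by
  rw [← Nat.card_eq_fintype_card] at h4
  exact Matrix.ProjectiveSpecialLinearGroup.rank_two_simple h4

/-- **No maximal subgroup of `E₇(2)` has `F* ≅ PSL(2, 19)`.** -/
theorem no_psl219 {F : Type*} [Field F] [Fintype F] (hF : Fintype.card F = 19)
    (H : Subgroup ↥(chevE7.group (ZMod 2))) (hH : IsCoatom H)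
    (e : ↥(generalizedFittingSubgroup ↥H) ≃* Matrix.ProjectiveSpecialLinearGroup (Fin 2) F) : False := by
  have := finite_psl (F := F) 2
  have := simple_two (F := F) (by omega)
  have hc : Nat.card (Matrix.ProjectiveSpecialLinearGroup (Fin 2) F) = 3420 := by
    have h := S0243.result (F := F) hF 2 le_rfl
    rw [Fin.prod_univ_two] at h
    generalize Nat.card (Matrix.ProjectiveSpecialLinearGroup (Fin 2) F) = c at h ⊢
    norm_num at h
    omega
  have ha := card_aut (F := F) (n := 2) (p := 19) (f := 1) (by norm_num) le_rfl (by rw [hF, pow_one]) le_rfl (by norm_num)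
  have ha' : Nat.card (MulAut (Matrix.ProjectiveSpecialLinearGroup (Fin 2) F)) =
      Nat.card (Matrix.ProjectiveSpecialLinearGroup (Fin 2) F) * 2 := ha.trans (congrArg _ (by norm_num))
  have hA := Max.admF_two (S := Matrix.ProjectiveSpecialLinearGroup (Fin 2) F) (m := 2) (k := 1)
    (not_comm (by rw [hc]; norm_num)) ha' (by norm_num) (by rw [hc]; norm_num) H hH e
  obtain ⟨x, y, hx, hy, hz, -, hcl⟩ := H61.E7.l2_nineteen hF
  exact Scott.not_255 hA hx hy hz hcl

/-- **No maximal subgroup of `E₇(2)` has `F* ≅ PSL(4, 3)`.** -/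
theorem no_psl43 (H : Subgroup ↥(chevE7.group (ZMod 2))) (hH : IsCoatom H)
    (e : ↥(generalizedFittingSubgroup ↥H) ≃* Matrix.ProjectiveSpecialLinearGroup (Fin 4) (ZMod 3)) : False := by
  have := finite_psl (F := ZMod 3) 4
  have := S0249.result (F := ZMod 3) 4 (by norm_num)
  have hF : Fintype.card (ZMod 3) = 3 := ZMod.card 3
  have hc : Nat.card (Matrix.ProjectiveSpecialLinearGroup (Fin 4) (ZMod 3)) = 6065280 := by
    have h := S0243.result (F := ZMod 3) hF 4 (by norm_num)
    rw [Fin.prod_univ_four] at h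
    generalize Nat.card (Matrix.ProjectiveSpecialLinearGroup (Fin 4) (ZMod 3)) = c at h ⊢
    norm_num at h
    omega
  have ha := card_aut (F := ZMod 3) (n := 4) (p := 3) (f := 1) (by norm_num) le_rfl (by rw [hF, pow_one]) (by norm_num)
    (by norm_num)
  have ha' : Nat.card (MulAut (Matrix.ProjectiveSpecialLinearGroup (Fin 4) (ZMod 3))) =
      Nat.card (Matrix.ProjectiveSpecialLinearGroup (Fin 4) (ZMod 3)) * 4 := ha.trans (congrArg _ (by norm_num))
  have hA := Max.admF_two (S := Matrix.ProjectiveSpecialLinearGroup (Fin 4) (ZMod 3)) (m := 4) (k := 2)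
    (not_comm (by rw [hc]; norm_num)) ha' (by norm_num) (by rw [hc]; norm_num) H hH e
  obtain ⟨x, y, hx, hy, hz, hcl⟩ := L43.exists_gen
  exact Scott.not_255 hA hx hy hz hcl

end Cfsg.Agent.H943.E7V.Rows
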