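import Cfsg.Agent.H943.E7V.Wt
import Cfsg.Agent.H129.PhiE
import Cfsg.Agent.H942.ValsChar

/-!
# Semisimple elements of `E₇(2)` on the 56-dimensional module
-/

set_option autoImplicit false
set_option linter.unusedSectionVars false

namespace Cfsg.Agent.H943.E7V.Tor

open CoxeterSystem Cfsg Cfsg.Lie Cfsg.Lie.ChevalleyDatum
open Cfsg.Agent.ChevalleyStructure Cfsg.Agent.ChevalleyStructure.Elts Cfsg.Agent.ChevalleyStructure.CoxeterGeom
  Cfsg.Agent.ChevalleyStructure.CoxeterGeomTypes Cfsg.Agent.ChevalleyStructure.NPerm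
  Cfsg.Agent.ChevalleyStructure.RootVec Cfsg.Agent.ChevalleyStructure.RootVecTab
open Cfsg.Agent.Tits.Roots Cfsg.Agent.Tits.Core Cfsg.Agent.Nodes Cfsg.Agent.Nodes.Reps Cfsg.Agent.Nodes.BNOf
  Cfsg.Agent.Nodes.RGDChev
open Cfsg.Agent.KFacts.RgdChevCoord Cfsg.Agent.GpExc.Field Cfsg.Agent.H129.TorusUntw
open Cfsg.Agent.ChevalleyStructure.StBasic Cfsg.Agent.ChevalleyStructure.StTheta Cfsg.Agent.ChevalleyStructure.StEmbed
open Cfsg.Agent.H129.StCover Cfsg.Agent.BpExc.TorAll Cfsg.Agent.KFacts.En.Roots Cfsg.Agent.H120.StSeven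
open Cfsg.Agent.H944.RootVals Cfsg.Agent.H944.E7Two
open Cfsg.Agent.H943.E7V.Block Cfsg.Agent.H943.E7V.Wt
open Polynomial (X C)

/-! ### the torus -/

section Torus

variable {K : Type} [Field K]

theorem blk_diagonal (d : chevE8.Idx → K) : blk (Matrix.diagonal d) = Matrix.diagonal fun s : D1 => d (pt s) := by
  ext a b
  show Matrix.diagonal d (pt a) (pt b) = Matrix.diagonal (fun s : D1 => d (pt s)) a b
  rw [Matrix.diagonal_apply, Matrix.diagonal_apply]
  simp only [pt_inj.eq_iff]

theorem rho_sth {i : ℕ} (hi : i < 7) (x : Kˣ) : rho K (sth chevE7 (chevE7.simple i) (x : K)) =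
    Matrix.diagonal fun s : D1 => ((x ^ chevE8.cartan i (s : Fin chevE8.nroots) : Kˣ) : K) := by
  have h0 : chevE7.simple i < chevE7.nroots := Cfsg.Agent.ChevalleyStructure.RootVec.simple_lt checked_E7 hi
  have h1 : (((H120.StSeven.alpha K (sth chevE7 (chevE7.simple i) (x : K)) : ↥(chevE8.group K)) : GL chevE8.Idx K) :
      Matrix chevE8.Idx chevE8.Idx K) = chevE8.hMat K (chevE8.simple i) (x : K) := by
    show (((theta ty_E8.ty.inList K (hom emb78 K (sth chevE7 (chevE7.simple i) (x : K))) : ↥(chevE8.group K)) :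
      GL chevE8.Idx K) : Matrix chevE8.Idx chevE8.Idx K) = _
    rw [hom_sth emb78 h0, simple78 i hi,
      theta_sth (theta ty_E8.ty.inList K) (fun r t _ => StTheta.theta_stGen ty_E8.ty.inList r t)]
  rw [rho_apply, h1, Cfsg.Agent.S1033.result (F := K) chevE8 ty_E8.ty.inList i (show i < 8 by omega) (x : K) x.ne_zero,
    blk_diagonal]
  congr 1
  funext s
  rw [Sum.elim_inr, Units.val_zpow_eq_zpow_val]

/-- the diagonal matrices of a torus -/
def dg (K : Type) [Field K] {ι : Type} [Fintype ι] [DecidableEq ι] {n : ℕ} (e : ι → Fin n → ℤ) :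
    (Fin n → Kˣ) →* Matrix ι ι K where
  toFun a := Matrix.diagonal fun s : ι => ((∏ i : Fin n, a i ^ e s i : Kˣ) : K)
  map_one' := by
    rw [← Matrix.diagonal_one]
    congr 1
    funext s
    simp
  map_mul' a b := by
    rw [Matrix.diagonal_mul_diagonal]
    congr 1
    funext s
    rw [← Units.val_mul, ← Finset.prod_mul_distrib]
    congr 1
    refine Finset.prod_congr rfl fun i _ => ?_
    rw [Pi.mul_apply, mul_zpow]

theorem dg_single {ι : Type} [Fintype ι] [DecidableEq ι] {n : ℕ} (e : ι → Fin n → ℤ) (j : Fin n) (x : Kˣ) :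
    dg K e (Pi.mulSingle j x) = Matrix.diagonal fun s : ι => ((x ^ e s j : Kˣ) : K) := by
  show Matrix.diagonal _ = _
  congr 1
  funext s
  rw [Finset.prod_eq_single j]
  · rw [Pi.mulSingle_eq_same]
  · intro i _ hij
    rw [Pi.mulSingle_eq_of_ne hij, one_zpow]
  · intro h
    exact absurd (Finset.mem_univ j) h

/-- the exponents -/
def ex (s : D1) (i : Fin chevE7.rank) : ℤ := chevE8.cartan i (s : Fin chevE8.nroots)

theorem rho_phi {Φ : (Fin chevE7.rank → Kˣ) →* chevE7.SteinbergGroup K} (hΦ : IsPhi Φ) (a : Fin chevE7.rank → Kˣ) :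
    rho K (Φ a) = dg K ex a := by
  have h : (rho K).comp Φ = dg K ex := by
    apply MonoidHom.pi_ext
    intro j x
    rw [MonoidHom.comp_apply, hΦ.single, rho_sth j.2, dg_single]
    rfl
  exact DFunLike.congr_fun h a

theorem conj_charpoly {G : Type*} [Group G] {ι : Type*} [Fintype ι] [DecidableEq ι] (r : G →* Matrix ι ι K) (g x : G) :
    (r (g * x * g⁻¹)).charpoly = (r x).charpoly := by
  have h := Matrix.charpoly_units_conj (r.toHomUnits g) (r x)
  rw [← h]
  congr 1
  rw [map_mul, map_mul]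
  congr 1
  rw [← Matrix.coe_units_inv, ← map_inv]
  rfl

theorem rho_conj_charpoly (g x : chevE7.SteinbergGroup K) : (rho K (g * x * g⁻¹)).charpoly = (rho K x).charpoly :=
  conj_charpoly _ g x

end Torus

theorem rho_stMap {F K : Type} [Field F] [Field K] (f : F →+* K) (x : chevE7.SteinbergGroup F) :
    rho K (stMap chevE7 f x) = (rho F x).map f := by
  have h : (glMap chevE8 f).comp ((chevE8.group F).subtype.comp (H120.StSeven.alpha F)) =
      ((chevE8.group K).subtype.comp (H120.StSeven.alpha K)).comp (stMap chevE7 f) := by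
    apply hom_ext
    intro r hr t
    show glMap chevE8 f ((theta ty_E8.ty.inList F (hom emb78 F (chevE7.stGen F r t)) : ↥(chevE8.group F)) :
      GL chevE8.Idx F) = ((theta ty_E8.ty.inList K (hom emb78 K (stMap chevE7 f (chevE7.stGen F r t))) :
      ↥(chevE8.group K)) : GL chevE8.Idx K)
    rw [stMap_stGen, hom_stGen emb78 hr, hom_stGen emb78 hr, coe_theta, coe_theta, thetaGL_stGen, thetaGL_stGen, glMap_xG]
  have h1 := DFunLike.congr_fun h x
  have h2 : (((H120.StSeven.alpha K (stMap chevE7 f x) : ↥(chevE8.group K)) : GL chevE8.Idx K) : Matrix chevE8.Idx chevE8.Idx K) =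
      (((H120.StSeven.alpha F x : ↥(chevE8.group F)) : GL chevE8.Idx F) : Matrix chevE8.Idx chevE8.Idx F).map f := by
    rw [← coe_glMap]
    exact congrArg Units.val h1.symm
  rw [rho_apply, h2, blk_map]
  rfl

/-! ### exponents -/

section Exp

variable {k : Type} [Field k] {N : ℕ} [NeZero N]

theorem zpow_val {z : kˣ} (hz : z ^ N = 1) (m : ℤ) : z ^ m = z ^ ((m : ZMod N).val) := by
  rw [← zpow_natCast, ZMod.val_intCast]
  have h1 : z ^ (N : ℤ) = 1 := by rw [zpow_natCast]; exact hz
  conv_lhs => rw [← Int.emod_add_mul_ediv m N]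
  rw [zpow_add, zpow_mul, h1, one_zpow, mul_one]

theorem prod_pow {z : kˣ} (hz : z ^ N = 1) {n : ℕ} (a : Fin n → ℕ) (e : Fin n → ℤ) :
    ∏ i, (z ^ a i) ^ e i = z ^ ((∑ i, (e i : ZMod N) * (a i : ZMod N)).val) := by
  have h2 : ∀ S : Finset (Fin n), ∏ i ∈ S, (z ^ a i) ^ e i = z ^ (∑ i ∈ S, e i * (a i : ℤ)) := by
    intro S
    induction S using Finset.induction_on with
    | empty => simp
    | insert b S hb ih =>
      rw [Finset.prod_insert hb, Finset.sum_insert hb, zpow_add, ih, mul_comm (e b), zpow_mul, zpow_natCast]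
  rw [h2, zpow_val hz]
  congr 3
  push_cast
  rfl

theorem pow_val_mul {z : kˣ} (hz : z ^ N = 1) (b : ZMod N) (m : ℕ) : (z ^ b.val) ^ m = z ^ (((m : ZMod N) * b).val) := by
  rw [← pow_mul]
  have h1 := zpow_val hz ((b.val * m : ℕ) : ℤ)
  rw [zpow_natCast] at h1
  rw [h1]
  congr 2
  push_cast
  rw [ZMod.natCast_zmod_val, mul_comm]

theorem dg_pow {ι : Type} [Fintype ι] [DecidableEq ι] {z : kˣ} (hz : z ^ N = 1) {n : ℕ} (e : ι → Fin n → ℤ)
    (a : Fin n → ℕ) (d : ℕ) : dg k e ((fun i => z ^ a i) ^ d) =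
      Matrix.diagonal fun s : ι => (z : k) ^ (((d : ZMod N) * ∑ i, (e s i : ZMod N) * (a i : ZMod N)).val) := by
  rw [map_pow]
  show (Matrix.diagonal fun s : ι => ((∏ i : Fin n, (z ^ a i) ^ e s i : kˣ) : k)) ^ d = _
  rw [Matrix.diagonal_pow]
  congr 1
  funext s
  show ((∏ i : Fin n, (z ^ a i) ^ e s i : kˣ) : k) ^ d = _
  rw [prod_pow hz, ← Units.val_pow_eq_pow_val, pow_val_mul hz, Units.val_pow_eq_pow_val]

/-- the multiset of the exponents of the eigenvalues of a matrix over the field of two elements is stable -/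
theorem frob_ms [CharP k 2] (f : ZMod 2 →+* k) {ι : Type} [Fintype ι] [DecidableEq ι] {u : ι → ZMod N} {z : k}
    (hz : IsPrimitiveRoot z N) {P : Polynomial (ZMod 2)}
    (h : P.map f = (Matrix.diagonal fun s : ι => z ^ (u s).val).charpoly) :
    Finset.univ.val.map u = Finset.univ.val.map fun s => 2 * u s := by
  have hfact : Fact (Nat.Prime 2) := ⟨Nat.prime_two⟩
  let φ : k →+* k := frobenius k 2
  have hφ : φ.comp f = f := Subsingleton.elim _ _
  have h2 : (Matrix.diagonal fun s : ι => z ^ (u s).val).charpoly.map φ =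
      (Matrix.diagonal fun s : ι => z ^ (u s).val).charpoly := by
    rw [← h, Polynomial.map_map, hφ]
  rw [← Matrix.charpoly_map, Matrix.diagonal_map (map_zero φ)] at h2
  have h3 := diag_multiset h2
  have hinj : Function.Injective fun b : ZMod N => z ^ b.val := by
    intro b b' hb
    exact ZMod.val_injective N (hz.pow_inj (ZMod.val_lt b) (ZMod.val_lt b') hb)
  have h4 : ∀ s : ι, (φ ∘ fun s : ι => z ^ (u s).val) s = (fun b : ZMod N => z ^ b.val) (2 * u s) := by
    intro s
    show (z ^ (u s).val) ^ 2 = z ^ (2 * u s).val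
    have hzu : (hz.toRootsOfUnity : kˣ) ^ N = 1 := by
      apply Units.ext
      rw [Units.val_pow_eq_pow_val, Units.val_one]
      exact hz.pow_eq_one
    have h5 := congrArg Units.val (pow_val_mul hzu (u s) 2)
    rw [Units.val_pow_eq_pow_val, Units.val_pow_eq_pow_val, Units.val_pow_eq_pow_val] at h5
    rw [Nat.cast_ofNat] at h5
    exact h5
  have h6 : Finset.univ.val.map (fun s : ι => φ (z ^ (u s).val)) =
      (Finset.univ.val.map fun s : ι => 2 * u s).map fun b : ZMod N => z ^ b.val := by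
    rw [Multiset.map_map]
    exact Multiset.map_congr rfl fun s _ => h4 s
  have h7 : Finset.univ.val.map (fun s : ι => z ^ (u s).val) =
      (Finset.univ.val.map u).map fun b : ZMod N => z ^ b.val := by
    rw [Multiset.map_map]
    rfl
  rw [h6, h7] at h3
  exact (Multiset.map_injective hinj h3).symm

end Exp

end Cfsg.Agent.H943.E7V.Tor
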