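import Cfsg.Agent.H943.E7V.Block
import Cfsg.Agent.H944.E7Two

/-!
# The weights of the 56-dimensional module of `E₇`

`wv v s` : the value of twice the weight of the root `s` of degree 1 on a vector `v` of values on the simple roots;
`ms56 v` : the multiset of these values, invariant under the simple reflections (`ms56_srefl`).
-/

set_option autoImplicit false
set_option maxRecDepth 100000

namespace Cfsg.Agent.H943.E7V.Wt

open Cfsg.Agent.ChevalleyStructure.CoxeterGeom Cfsg.Agent.Tits.Roots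
  Cfsg.Agent.Nodes.RGDChev
open Cfsg.Lie Cfsg.Agent.ChevalleyStructure Cfsg.Agent.ChevalleyStructure.Elts
  Cfsg.Agent.ChevalleyStructure.RootVec Cfsg.Agent.ChevalleyStructure.RootVecTab
  Cfsg.Agent.ChevalleyStructure.NPerm Cfsg.Agent.ChevalleyStructure.CoxeterGeomTypes
open Cfsg.Agent.H944.RootVals Cfsg.Agent.H944.Kac Cfsg.Agent.H944.Tab Cfsg.Agent.H944.E7Two
open Cfsg.Agent.H943.E7V.Block

/-- twice the coordinates of the highest weight -/
def w7 : List ℤ := [2, 3, 4, 6, 5, 4, 3]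

/-- twice the coordinates of the weight of the root `s` -/
def cc (s j : ℕ) : ℤ := 2 * rt chevE8 s j - w7.getD j 0

/-- the value of twice the weight -/
def wv {R : Type*} [CommRing R] (v : Fin 7 → R) (s : ℕ) : R := ∑ i : Fin 7, ((cc s i : ℤ) : R) * v i

/-- the multiset of the values of twice the weights -/
def ms56 {R : Type*} [CommRing R] (v : Fin 7 → R) : Multiset R := (Finset.univ : Finset D1).val.map fun s : D1 => wv v (s : Fin chevE8.nroots)

theorem card_ms56 {R : Type*} [CommRing R] (v : Fin 7 → R) : Multiset.card (ms56 v) = 56 := by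
  rw [ms56, Multiset.card_map]
  exact card_D1

theorem pair_eq : ∀ s < chevE8.nroots, rt chevE8 s 7 = 1 → ∀ i < 7,
    ((List.range 7).map fun j => cc s j * chevE7.cartan i (chevE7.simple j)).sum = 2 * chevE8.cartan i s := by
  decide +kernel

theorem pair_eq' (s : D1) (i : Fin 7) : ∑ j : Fin 7, cc (s : Fin chevE8.nroots) j * chevE7.cartan i (chevE7.simple j) =
    2 * chevE8.cartan i (s : Fin chevE8.nroots) := by
  have h := pair_eq s.1 s.1.2 s.2 i i.2
  rw [← h]
  simp [Fin.sum_univ_seven, List.range_succ]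
  ring

/-! ### reflections -/

theorem refl_rt (j : Fin 7) {s : ℕ} (hs : s < chevE8.nroots) : chevE8.reflectRoot j s < chevE8.nroots ∧
    ∀ i, rt chevE8 (chevE8.reflectRoot j s) i = rt chevE8 s i - chevE8.cartan j s * (if i = j then 1 else 0) :=
  reflectRoot_rt checked_E8 (show (j : ℕ) < 8 by omega) hs

/-- the reflection on the roots of degree 1 -/
def rf (j : Fin 7) (s : D1) : D1 := ⟨⟨chevE8.reflectRoot j s.1, (refl_rt j s.1.2).1⟩, by
  show rt chevE8 (chevE8.reflectRoot j s.1) 7 = 1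
  rw [(refl_rt j s.1.2).2, s.2, if_neg (by omega), mul_zero, sub_zero]⟩

theorem e8T : IsType chevE8 8 CoxeterMatrix.E₈ := by simp [IsType, typeList]

theorem rf_bij (j : Fin 7) : Function.Bijective (rf j) := by
  rw [Finite.injective_iff_bijective.symm]
  intro s t h
  have h1 : chevE8.reflectRoot (j.castSucc : Fin 8) s.1 = chevE8.reflectRoot (j.castSucc : Fin 8) t.1 :=
    congrArg (fun x : D1 => ((x : Fin chevE8.nroots) : ℕ)) h
  exact Subtype.ext ((reflect_bij e8T j.castSucc).1 (Fin.ext h1))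

theorem wv_srefl {R : Type*} [CommRing R] (j : Fin 7) (v : Fin 7 → R) (s : D1) :
    wv (srefl chevE7 7 j v) (s : Fin chevE8.nroots) = wv v ((rf j s : D1) : Fin chevE8.nroots) := by
  unfold wv srefl
  have h1 : ∀ i : Fin 7, ((cc ((rf j s : D1) : Fin chevE8.nroots) i : ℤ) : R) * v i =
      ((cc (s : Fin chevE8.nroots) i : ℤ) : R) * v i - ((2 * chevE8.cartan j (s : Fin chevE8.nroots) : ℤ) : R) * (if i = j then v i else 0) := by
    intro i
    have h2 : cc ((rf j s : D1) : Fin chevE8.nroots) i = cc (s : Fin chevE8.nroots) i -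
        2 * chevE8.cartan j (s : Fin chevE8.nroots) * (if i = j then 1 else 0) := by
      have h3 := (refl_rt j s.1.2).2 i
      show 2 * rt chevE8 (chevE8.reflectRoot j s.1) i - _ = 2 * rt chevE8 s.1 i - _ - _
      rw [h3]
      simp only [Fin.ext_iff]
      ring
    rw [h2]
    split_ifs <;> push_cast <;> ring
  simp only [h1, mul_sub]
  rw [Finset.sum_sub_distrib, Finset.sum_sub_distrib, ← Finset.mul_sum]
  congr 1
  rw [Finset.sum_ite_eq' Finset.univ j v, if_pos (Finset.mem_univ j), ← pair_eq' s j]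
  push_cast
  rw [Finset.sum_mul]
  refine Finset.sum_congr rfl fun i _ => ?_
  rw [cartanOf_def]
  ring

theorem ms56_srefl {R : Type*} [CommRing R] (j : Fin 7) (v : Fin 7 → R) : ms56 (srefl chevE7 7 j v) = ms56 v := by
  have h1 := Multiset.map_univ_val_equiv (Equiv.ofBijective _ (rf_bij j))
  conv_rhs => rw [ms56, ← h1, Multiset.map_map]
  unfold ms56
  refine Multiset.map_congr rfl fun s _ => ?_
  rw [wv_srefl j v s]
  rfl

/-! ### the table -/

/-- half of the weights (doubled), as pairs of positive and negative part -/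
def W28 : List (List ℕ × List ℕ) :=
  [([0, 1, 0, 0, 0, 0, 0], [0, 0, 0, 0, 1, 2, 1]),
   ([0, 1, 0, 0, 0, 0, 0], [0, 0, 0, 0, 1, 0, 1]),
   ([0, 1, 0, 0, 0, 0, 1], [0, 0, 0, 0, 1, 0, 0]),
   ([0, 1, 0, 0, 1, 0, 0], [0, 0, 0, 0, 0, 0, 1]),
   ([0, 1, 0, 0, 1, 0, 1], [0, 0, 0, 0, 0, 0, 0]),
   ([0, 1, 0, 0, 1, 2, 1], [0, 0, 0, 0, 0, 0, 0]),
   ([0, 1, 0, 2, 1, 0, 0], [0, 0, 0, 0, 0, 0, 1]),
   ([0, 1, 0, 2, 1, 0, 1], [0, 0, 0, 0, 0, 0, 0]),
   ([0, 1, 0, 2, 1, 2, 1], [0, 0, 0, 0, 0, 0, 0]),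
   ([0, 1, 0, 2, 3, 2, 1], [0, 0, 0, 0, 0, 0, 0]),
   ([0, 1, 2, 2, 1, 0, 0], [0, 0, 0, 0, 0, 0, 1]),
   ([0, 1, 2, 2, 1, 0, 1], [0, 0, 0, 0, 0, 0, 0]),
   ([0, 1, 2, 2, 1, 2, 1], [0, 0, 0, 0, 0, 0, 0]),
   ([0, 1, 2, 2, 3, 2, 1], [0, 0, 0, 0, 0, 0, 0]),
   ([0, 1, 2, 4, 3, 2, 1], [0, 0, 0, 0, 0, 0, 0]),
   ([0, 3, 2, 4, 3, 2, 1], [0, 0, 0, 0, 0, 0, 0]),
   ([2, 1, 2, 2, 1, 0, 0], [0, 0, 0, 0, 0, 0, 1]),
   ([2, 1, 2, 2, 1, 0, 1], [0, 0, 0, 0, 0, 0, 0]),
   ([2, 1, 2, 2, 1, 2, 1], [0, 0, 0, 0, 0, 0, 0]),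
   ([2, 1, 2, 2, 3, 2, 1], [0, 0, 0, 0, 0, 0, 0]),
   ([2, 1, 2, 4, 3, 2, 1], [0, 0, 0, 0, 0, 0, 0]),
   ([2, 1, 4, 4, 3, 2, 1], [0, 0, 0, 0, 0, 0, 0]),
   ([2, 3, 2, 4, 3, 2, 1], [0, 0, 0, 0, 0, 0, 0]),
   ([2, 3, 4, 4, 3, 2, 1], [0, 0, 0, 0, 0, 0, 0]),
   ([2, 3, 4, 6, 3, 2, 1], [0, 0, 0, 0, 0, 0, 0]),
   ([2, 3, 4, 6, 5, 2, 1], [0, 0, 0, 0, 0, 0, 0]),
   ([2, 3, 4, 6, 5, 4, 1], [0, 0, 0, 0, 0, 0, 0]),
   ([2, 3, 4, 6, 5, 4, 3], [0, 0, 0, 0, 0, 0, 0])]

/-- the coordinates of a pair -/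
def crd (w : List ℕ × List ℕ) (j : ℕ) : ℤ := (w.1.getD j 0 : ℤ) - (w.2.getD j 0 : ℤ)

theorem tabW : ((List.finRange chevE8.nroots).filter fun s : Fin chevE8.nroots => decide (rt chevE8 s 7 = 1)).map
      (fun s => (List.range 7).map fun j => cc s j) =
    (W28.reverse.map fun w => (List.range 7).map fun j => - crd w j) ++ W28.map fun w => (List.range 7).map fun j => crd w j := by
  decide +kernel

/-- the value of a pair -/
def wl {R : Type*} [CommRing R] (w : List ℕ × List ℕ) (v : Fin 7 → R) : R := ∑ i : Fin 7, ((crd w i : ℤ) : R) * v i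

theorem ms56_tab {R : Type*} [CommRing R] (v : Fin 7 → R) :
    ms56 v = ((W28.map fun w => wl w v : List R) : Multiset R) + ((W28.map fun w => - wl w v : List R) : Multiset R) := by
  have h1 : ms56 v = ((((List.finRange chevE8.nroots).filter fun s : Fin chevE8.nroots =>
      decide (rt chevE8 s 7 = 1)).map fun s : Fin chevE8.nroots => wv v s : List R) : Multiset R) := by
    have h2 : (Finset.univ : Finset D1).val.map (fun s : D1 => (s : Fin chevE8.nroots)) =
        (((List.finRange chevE8.nroots).filter fun s : Fin chevE8.nroots => decide (rt chevE8 s 7 = 1) :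
          List (Fin chevE8.nroots)) : Multiset (Fin chevE8.nroots)) := by
      have h3 : (Finset.univ : Finset D1).map (Function.Embedding.subtype _) =
          (Finset.univ : Finset (Fin chevE8.nroots)).filter fun s : Fin chevE8.nroots => rt chevE8 s 7 = 1 := by
        ext x
        simp
      have h4 := congrArg Finset.val h3
      rw [Finset.map_val] at h4
      exact h4
    rw [← Multiset.map_coe, ← h2, Multiset.map_map]
    rfl
  have h3 : ∀ s : Fin chevE8.nroots, wv v (s : ℕ) =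
      (fun t : List ℤ => ∑ i : Fin 7, ((t.getD i 0 : ℤ) : R) * v i) ((List.range 7).map fun j => cc s j) := by
    intro s
    unfold wv
    refine Finset.sum_congr rfl fun i _ => ?_
    congr 2
    rw [List.getD_eq_getElem _ _ (by simp)]
    simp
  have h4 : ((List.finRange chevE8.nroots).filter fun s : Fin chevE8.nroots =>
      decide (rt chevE8 s 7 = 1)).map (fun s : Fin chevE8.nroots => wv v (s : ℕ)) =
      (((List.finRange chevE8.nroots).filter fun s : Fin chevE8.nroots => decide (rt chevE8 s 7 = 1)).map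
      (fun s => (List.range 7).map fun j => cc s j)).map (fun t : List ℤ => ∑ i : Fin 7, ((t.getD i 0 : ℤ) : R) * v i) := by
    rw [List.map_map]
    exact List.map_congr_left fun s _ => h3 s
  rw [h1, h4, tabW, List.map_append, List.map_map, List.map_map, ← Multiset.coe_add, add_comm]
  have h5 : (fun t : List ℤ => ∑ i : Fin 7, ((t.getD i 0 : ℤ) : R) * v i) ∘
      (fun w : List ℕ × List ℕ => (List.range 7).map fun j => crd w j) = fun w => wl w v := by
    funext w
    simp only [Function.comp_apply]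
    unfold wl
    refine Finset.sum_congr rfl fun i _ => ?_
    congr 2
    rw [List.getD_eq_getElem _ _ (by simp)]
    simp
  have h6 : (fun t : List ℤ => ∑ i : Fin 7, ((t.getD i 0 : ℤ) : R) * v i) ∘
      (fun w : List ℕ × List ℕ => (List.range 7).map fun j => - crd w j) = fun w => - wl w v := by
    funext w
    simp only [Function.comp_apply]
    unfold wl
    rw [← Finset.sum_neg_distrib]
    refine Finset.sum_congr rfl fun i _ => ?_
    rw [List.getD_eq_getElem _ _ (by simp)]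
    simp
  rw [h5, h6, List.map_reverse]
  congr 1
  exact Multiset.coe_eq_coe.2 (List.reverse_perm _)

end Cfsg.Agent.H943.E7V.Wt
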